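/-
Cyclic matrices and factorizations `M * C = A` with `A` and `C` cyclic for the same polynomial.
-/
import Mathlib

set_option autoImplicit false

namespace Cfsg.Agent.SLComm

open Polynomial Matrix

variable {K : Type*} [Field K] {n : ℕ}

/-- `w` is a cyclic vector of `A`, and the monic polynomial `f` of degree `n` annihilates `A` -/
structure Cyc (f : K[X]) (A : Matrix (Fin n) (Fin n) K) (w : Fin n → K) : Prop where
  monic : f.Monic
  deg : f.natDegree = n
  ann : aeval A f = 0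
  indep : ∀ p : K[X], p.degree < (n : ℕ) → aeval A p *ᵥ w = 0 → p = 0

theorem aeval_transpose' (A : Matrix (Fin n) (Fin n) K) (p : K[X]) :
    aeval Aᵀ p = (aeval A p)ᵀ := by
  induction p using Polynomial.induction_on' with
  | add p q hp hq => rw [map_add, map_add, hp, hq, transpose_add]
  | monomial k a => rw [aeval_monomial, aeval_monomial, ← Algebra.smul_def, ← Algebra.smul_def,
      transpose_smul, transpose_pow]

theorem aeval_conj' (P : GL (Fin n) K) (A : Matrix (Fin n) (Fin n) K) (p : K[X]) :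
    aeval (P.1 * A * P⁻¹.1) p = P.1 * aeval A p * P⁻¹.1 := by
  induction p using Polynomial.induction_on' with
  | add p q hp hq => rw [map_add, map_add, hp, hq, mul_add, add_mul]
  | monomial k a =>
    have hk : (P.1 * A * P⁻¹.1) ^ k = P.1 * A ^ k * P⁻¹.1 := Units.conj_pow P A k
    rw [aeval_monomial, aeval_monomial, hk, ← Algebra.smul_def, ← Algebra.smul_def,
      mul_smul_comm, smul_mul_assoc]

theorem gl_inv_mulVec (P : GL (Fin n) K) (v : Fin n → K) : P⁻¹.1 *ᵥ (P.1 *ᵥ v) = v := by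
  rw [mulVec_mulVec, ← Units.val_mul, inv_mul_cancel, Units.val_one, one_mulVec]

theorem gl_mulVec_inj (P : GL (Fin n) K) {v w : Fin n → K} (h : P.1 *ᵥ v = P.1 *ᵥ w) : v = w := by
  rw [← gl_inv_mulVec P v, h, gl_inv_mulVec]

namespace Cyc

variable {f : K[X]} {A B : Matrix (Fin n) (Fin n) K} {w v : Fin n → K}

theorem smul (h : Cyc f A w) {k : K} (hk : k ≠ 0) : Cyc f A (k • w) :=
  ⟨h.monic, h.deg, h.ann, fun p hp h0 => h.indep p hp (by
    rw [mulVec_smul] at h0
    exact (smul_eq_zero.1 h0).resolve_left hk)⟩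

theorem conj (h : Cyc f A w) (P : GL (Fin n) K) : Cyc f (P.1 * A * P⁻¹.1) (P.1 *ᵥ w) := by
  refine ⟨h.monic, h.deg, by rw [aeval_conj', h.ann, mul_zero, zero_mul], fun p hp h0 => ?_⟩
  rw [aeval_conj', ← mulVec_mulVec, gl_inv_mulVec, ← mulVec_mulVec] at h0
  exact h.indep p hp (gl_mulVec_inj P (h0.trans (mulVec_zero _).symm))

theorem reduce (h : Cyc f A w) (p : K[X]) : aeval A (p %ₘ f) = aeval A p := by
  conv_rhs => rw [← modByMonic_add_div p f]
  rw [map_add, map_mul, h.ann, zero_mul, add_zero]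

theorem reduce_deg (h : Cyc f A w) (p : K[X]) : (p %ₘ f).degree < (n : ℕ) := by
  have := degree_modByMonic_lt p h.monic
  rwa [degree_eq_natDegree h.monic.ne_zero, h.deg] at this

/-- polynomials of degree `< n` evaluated at the cyclic vector -/
noncomputable def toVec (_h : Cyc f A w) : degreeLT K n →ₗ[K] (Fin n → K) where
  toFun p := aeval A p.1 *ᵥ w
  map_add' p q := by simp [map_add, add_mulVec]
  map_smul' a p := by simp [map_smul, smul_mulVec]

theorem toVec_injective (h : Cyc f A w) : Function.Injective h.toVec := by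
  rw [← LinearMap.ker_eq_bot, LinearMap.ker_eq_bot']
  intro p hp
  exact Subtype.ext (h.indep p.1 (mem_degreeLT.1 p.2) hp)

/-- the coordinates attached to a cyclic vector -/
noncomputable def coords (h : Cyc f A w) : (Fin n → K) ≃ₗ[K] (Fin n → K) :=
  LinearEquiv.ofInjectiveEndo (h.toVec ∘ₗ (degreeLTEquiv K n).symm.toLinearMap)
    (h.toVec_injective.comp (degreeLTEquiv K n).symm.injective)

theorem coords_apply (h : Cyc f A w) (p : K[X]) :
    h.coords (degreeLTEquiv K n ⟨p %ₘ f, mem_degreeLT.2 (h.reduce_deg p)⟩) = aeval A p *ᵥ w := by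
  show h.toVec ((degreeLTEquiv K n).symm _) = _
  rw [LinearEquiv.symm_apply_apply]
  show aeval A (p %ₘ f) *ᵥ w = _
  rw [h.reduce]

theorem span (h : Cyc f A w) (y : Fin n → K) : ∃ p : K[X], y = aeval A p *ᵥ w := by
  refine ⟨((degreeLTEquiv K n).symm (h.coords.symm y)).1, ?_⟩
  exact (h.coords.apply_symm_apply y).symm

/-- cyclic matrices with the same polynomial are similar -/
theorem similar (hA : Cyc f A w) (hB : Cyc f B v) : ∃ Q : GL (Fin n) K, Q.1 * A = B * Q.1 := by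
  let e := hA.coords.symm.trans hB.coords
  have he : ∀ p : K[X], e (aeval A p *ᵥ w) = aeval B p *ᵥ v := by
    intro p
    rw [← hA.coords_apply p, ← hB.coords_apply p]
    simp [e]
  refine ⟨⟨LinearMap.toMatrix' e.toLinearMap, LinearMap.toMatrix' e.symm.toLinearMap, ?_, ?_⟩, ?_⟩
  · rw [← LinearMap.toMatrix'_comp]
    simp
  · rw [← LinearMap.toMatrix'_comp]
    simp
  · show LinearMap.toMatrix' e.toLinearMap * A = B * LinearMap.toMatrix' e.toLinearMap
    refine Matrix.toLin'.injective (LinearMap.ext fun y => ?_)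
    rw [Matrix.toLin'_mul, Matrix.toLin'_mul, Matrix.toLin'_toMatrix']
    obtain ⟨p, rfl⟩ := hA.span y
    simp only [LinearMap.comp_apply, Matrix.toLin'_apply, LinearEquiv.coe_coe]
    rw [he, mulVec_mulVec, mulVec_mulVec]
    have := he (X * p)
    rwa [map_mul, map_mul, aeval_X, aeval_X] at this

theorem coeff_zero_of (h : Cyc f A w) (p : K[X]) (hp : p.degree < (n : ℕ)) (i : Fin n) :
    h.coords.symm (aeval A p *ᵥ w) i = p.coeff i := by
  rw [← h.coords_apply p, LinearEquiv.symm_apply_apply]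
  show (p %ₘ f).coeff i = _
  rw [(modByMonic_eq_self_iff h.monic).2 (by rwa [degree_eq_natDegree h.monic.ne_zero, h.deg])]

theorem transpose (h : Cyc f A w) : ∃ u, Cyc f Aᵀ u := by
  rcases Nat.eq_zero_or_pos n with hn | hn
  · exact ⟨0, h.monic, h.deg, by rw [aeval_transpose', h.ann, transpose_zero], fun p hp _ => by
      subst hn
      exact degree_eq_bot.1 (Nat.WithBot.lt_zero_iff.1 (by simpa using hp))⟩
  · let i0 : Fin n := ⟨n - 1, by omega⟩
    let ψ : (Fin n → K) →ₗ[K] K := (LinearMap.proj i0).comp h.coords.symm.toLinearMap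
    let u : Fin n → K := fun i => ψ (Pi.single i 1)
    have hu : ∀ y, u ⬝ᵥ y = ψ y := by
      intro y
      conv_rhs => rw [← Finset.univ_sum_single y]
      rw [map_sum, dotProduct]
      refine Finset.sum_congr rfl fun i _ => ?_
      rw [show Pi.single i (y i) = y i • Pi.single i (1 : K) by simp [← Pi.single_smul], map_smul,
        smul_eq_mul, mul_comm]
    refine ⟨u, h.monic, h.deg, by rw [aeval_transpose', h.ann, transpose_zero], fun p hp h0 => ?_⟩
    by_contra hp0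
    have hd : p.natDegree < n := (natDegree_lt_iff_degree_lt hp0).2 hp
    have h1 : ψ (aeval A p *ᵥ (aeval A (X ^ (n - 1 - p.natDegree) : K[X]) *ᵥ w)) = 0 := by
      rw [← hu, dotProduct_mulVec, ← mulVec_transpose, ← aeval_transpose', h0, zero_dotProduct]
    rw [mulVec_mulVec, ← map_mul] at h1
    have hd2 : (p * X ^ (n - 1 - p.natDegree)).natDegree < n := by
      rw [natDegree_mul hp0 (pow_ne_zero _ X_ne_zero), natDegree_X_pow]
      omega
    have h2 := h.coeff_zero_of (p * X ^ (n - 1 - p.natDegree))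
      ((natDegree_lt_iff_degree_lt (mul_ne_zero hp0 (pow_ne_zero _ X_ne_zero))).1 hd2) i0
    rw [show h.coords.symm _ i0 = ψ _ from rfl, h1, coeff_mul_X_pow',
      if_pos (show n - 1 - p.natDegree ≤ (i0 : ℕ) by show _ ≤ n - 1; omega),
      show (i0 : ℕ) - (n - 1 - p.natDegree) = p.natDegree by show n - 1 - _ = _; omega] at h2
    exact leadingCoeff_ne_zero.2 hp0 h2.symm

end Cyc

/-- the block matrix with the first row `(a, r)` and the first column `(a, c)` -/
def bord (a : K) (r c : Fin n → K) (X : Matrix (Fin n) (Fin n) K) :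
    Matrix (Fin (n + 1)) (Fin (n + 1)) K :=
  Matrix.of (vecCons (vecCons a r) fun i => vecCons (c i) (X i))

theorem bord_mul (a a' : K) (r r' c c' : Fin n → K) (X X' : Matrix (Fin n) (Fin n) K) :
    bord a r c X * bord a' r' c' X' =
      bord (a * a' + r ⬝ᵥ c') (a • r' + r ᵥ* X') (a' • c + X *ᵥ c') (vecMulVec c r' + X * X') := by
  ext i j
  rw [Matrix.mul_apply, Fin.sum_univ_succ]
  refine Fin.cases ?_ (fun i => ?_) i <;> refine Fin.cases ?_ (fun j => ?_) j <;>
    simp [bord, Matrix.mul_apply, mulVec, vecMul, dotProduct, vecMulVec_apply, mul_comm]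

theorem bord_mulVec (a : K) (r c : Fin n → K) (X : Matrix (Fin n) (Fin n) K) (x : K)
    (y : Fin n → K) : bord a r c X *ᵥ vecCons x y = vecCons (a * x + r ⬝ᵥ y) (x • c + X *ᵥ y) := by
  ext i
  rw [mulVec, dotProduct, Fin.sum_univ_succ]
  refine Fin.cases ?_ (fun i => ?_) i <;> simp [bord, mulVec, dotProduct, mul_comm]

omit [Field K] in
theorem bord_transpose (a : K) (r c : Fin n → K) (X : Matrix (Fin n) (Fin n) K) :
    (bord a r c X)ᵀ = bord a c r Xᵀ := by
  ext i j
  refine Fin.cases ?_ (fun i => ?_) i <;> refine Fin.cases ?_ (fun j => ?_) j <;> simp [bord]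

theorem bord_one : (1 : Matrix (Fin (n + 1)) (Fin (n + 1)) K) = bord 1 0 0 1 := by
  ext i j
  refine Fin.cases ?_ (fun i => ?_) i <;> refine Fin.cases ?_ (fun j => ?_) j <;>
    simp [bord, Matrix.one_apply, Fin.succ_ne_zero]
  exact fun h => absurd h.symm (Fin.succ_ne_zero j)

theorem bord_zero : (0 : Matrix (Fin (n + 1)) (Fin (n + 1)) K) = bord 0 0 0 0 := by
  ext i j
  refine Fin.cases ?_ (fun i => ?_) i <;> refine Fin.cases ?_ (fun j => ?_) j <;> simp [bord]

theorem bord_add (a a' : K) (r r' c c' : Fin n → K) (X X' : Matrix (Fin n) (Fin n) K) :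
    bord a r c X + bord a' r' c' X' = bord (a + a') (r + r') (c + c') (X + X') := by
  ext i j
  refine Fin.cases ?_ (fun i => ?_) i <;> refine Fin.cases ?_ (fun j => ?_) j <;> simp [bord]

theorem bord_smul (k a : K) (r c : Fin n → K) (X : Matrix (Fin n) (Fin n) K) :
    k • bord a r c X = bord (k * a) (k • r) (k • c) (k • X) := by
  ext i j
  refine Fin.cases ?_ (fun i => ?_) i <;> refine Fin.cases ?_ (fun j => ?_) j <;> simp [bord]

theorem bord_sub_scalar (a : K) (r c : Fin n → K) (X : Matrix (Fin n) (Fin n) K) (k : K) :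
    bord a r c X - k • (1 : Matrix (Fin (n + 1)) (Fin (n + 1)) K) =
      bord (a - k) r c (X - k • (1 : Matrix (Fin n) (Fin n) K)) := by
  rw [sub_eq_add_neg, ← neg_smul, bord_one, bord_smul, bord_add]
  simp [sub_eq_add_neg]

theorem det_bord_lower (a : K) (c : Fin n → K) (X : Matrix (Fin n) (Fin n) K) :
    (bord a 0 c X).det = a * X.det := by
  rw [det_succ_row_zero, Fin.sum_univ_succ, Finset.sum_eq_zero (fun j _ => by simp [bord]), add_zero]
  simp [bord]
  left
  rfl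

theorem aeval_bord (a : K) (c : Fin n → K) (X' : Matrix (Fin n) (Fin n) K) (p : K[X]) :
    ∃ y, aeval (bord a 0 c X') p = bord (p.eval a) 0 y (aeval X' p) := by
  induction p using Polynomial.induction_on with
  | C k =>
    refine ⟨0, ?_⟩
    rw [aeval_C, aeval_C, Algebra.algebraMap_eq_smul_one, Algebra.algebraMap_eq_smul_one, bord_one,
      bord_smul]
    simp
  | add p q hp hq =>
    obtain ⟨y, hy⟩ := hp
    obtain ⟨z, hz⟩ := hq
    exact ⟨y + z, by rw [map_add, map_add, hy, hz, bord_add, eval_add]; simp⟩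
  | monomial k b hk =>
    obtain ⟨y, hy⟩ := hk
    refine ⟨a • y + aeval X' (C b * X ^ k) *ᵥ c, ?_⟩
    rw [pow_succ, ← mul_assoc]
    generalize C b * X ^ k = q at hy ⊢
    rw [map_mul, map_mul, aeval_X, aeval_X, hy, bord_mul, eval_mul, eval_X]
    simp

theorem eval_bord_det (a : K) (c : Fin n → K) (X' : Matrix (Fin n) (Fin n) K) (p : K[X]) :
    (aeval (bord a 0 c X') p).det = p.eval a * (aeval X' p).det := by
  obtain ⟨y, hy⟩ := aeval_bord a c X' p
  rw [hy, det_bord_lower]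

variable {f : K[X]} {A : Matrix (Fin n) (Fin n) K} {w : Fin n → K}

theorem exists_sol (h : aeval A f = 0) {a : K} (ha : f.eval a ≠ 0) (x : Fin n → K) :
    ∃ y, (A - a • (1 : Matrix (Fin n) (Fin n) K)) *ᵥ y = x := by
  obtain ⟨s, hs⟩ := X_sub_C_dvd_sub_C_eval (a := a) (p := f)
  have h1 := congrArg (aeval A) hs
  rw [map_sub, map_mul, map_sub, h, aeval_X, aeval_C, aeval_C, zero_sub,
    Algebra.algebraMap_eq_smul_one, Algebra.algebraMap_eq_smul_one] at h1
  refine ⟨-(f.eval a)⁻¹ • (aeval A s *ᵥ x), ?_⟩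
  rw [mulVec_smul, mulVec_mulVec, ← h1, neg_mulVec, smul_mulVec, one_mulVec, smul_neg, neg_smul,
    neg_neg, smul_smul, inv_mul_cancel₀ ha, one_smul]

theorem Cyc.bord {a : K} {c y : Fin n → K} (h : Cyc f A w)
    (hy : c + (A - a • (1 : Matrix (Fin n) (Fin n) K)) *ᵥ y = w) :
    Cyc ((X - C a) * f) (SLComm.bord a 0 c A) (vecCons 1 y) := by
  refine ⟨(monic_X_sub_C a).mul h.monic, ?_, ?_, fun p hp h0 => ?_⟩
  · rw [(monic_X_sub_C a).natDegree_mul h.monic, natDegree_X_sub_C, h.deg, add_comm]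
  · obtain ⟨z, hz⟩ := aeval_bord a c A f
    rw [mul_comm (X - C a) f, map_mul, map_sub, aeval_X, aeval_C, Algebra.algebraMap_eq_smul_one,
      hz, h.ann, bord_sub_scalar, bord_mul, bord_zero]
    simp
  · obtain ⟨z, hz⟩ := aeval_bord a c A p
    have hr : p.eval a = 0 := by
      rw [hz, bord_mulVec] at h0
      simpa using congrFun h0 0
    obtain ⟨s, rfl⟩ := dvd_iff_isRoot.2 hr
    obtain ⟨z', hz'⟩ := aeval_bord a c A s
    rw [mul_comm, map_mul, map_sub, aeval_X, aeval_C, Algebra.algebraMap_eq_smul_one,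
      ← mulVec_mulVec, bord_sub_scalar, bord_mulVec, hz', bord_mulVec] at h0
    have h1 : aeval A s *ᵥ w = 0 := by
      have h2 := congrArg (fun v : Fin (n + 1) → K => fun i : Fin n => v i.succ) h0
      simp [hy] at h2
      exact h2
    by_cases hs : s = 0
    · rw [hs, mul_zero]
    · refine absurd (h.indep s ?_ h1) hs
      rw [degree_mul, degree_X_sub_C, degree_eq_natDegree hs] at hp
      rw [degree_eq_natDegree hs]
      norm_cast at hp ⊢
      omega

/-- `w` is congruent to `c` modulo the image of `A - 1` -/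
def Near (A : Matrix (Fin n) (Fin n) K) (c w : Fin n → K) : Prop :=
  ∃ z, (A - 1) *ᵥ z = w - c

theorem Near.conj {c : Fin n → K} (h : Near A c w) (P : GL (Fin n) K) :
    Near (P.1 * A * P⁻¹.1) (P.1 *ᵥ c) (P.1 *ᵥ w) := by
  obtain ⟨z, hz⟩ := h
  refine ⟨P.1 *ᵥ z, ?_⟩
  rw [sub_mulVec, one_mulVec, ← mulVec_mulVec, gl_inv_mulVec, ← mulVec_mulVec, ← mulVec_sub,
    ← mulVec_sub, ← hz, sub_mulVec, one_mulVec]

theorem Near.twist {c : Fin n → K} (h : Near A c w) : Near A (-(A *ᵥ c)) (-w) := by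
  obtain ⟨z, hz⟩ := h
  refine ⟨-z + c, ?_⟩
  rw [mulVec_add, mulVec_neg, hz, sub_mulVec, one_mulVec]
  abel

theorem Cyc.bord_near {c : Fin n → K} (h : Cyc f A w) (hc : Near A c w)
    (d : Fin (n + 1) → K) (hd : d 0 ≠ 0) :
    ∃ v, Cyc ((X - C 1) * f) (SLComm.bord 1 0 c A) v ∧ Near (SLComm.bord 1 0 c A) d v := by
  obtain ⟨z, hz⟩ := hc
  have hy : c + (A - (1 : K) • (1 : Matrix (Fin n) (Fin n) K)) *ᵥ z = w := by
    rw [one_smul, hz]; abel
  refine ⟨d 0 • vecCons 1 z, (h.bord hy).smul hd, ?_⟩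
  obtain ⟨p, hp⟩ := h.span (d 0 • z - vecTail d)
  obtain ⟨s, hs⟩ := X_sub_C_dvd_sub_C_eval (a := (1 : K)) (p := p)
  refine ⟨vecCons (p.eval 1) (p.eval 1 • z + aeval A s *ᵥ w), ?_⟩
  have h1 := congrArg (aeval A) hs
  rw [map_sub, map_mul, map_sub, aeval_X, aeval_C, aeval_C, map_one, sub_eq_iff_eq_add',
    Algebra.algebraMap_eq_smul_one] at h1
  rw [h1, add_mulVec, ← mulVec_mulVec, smul_mulVec, one_mulVec] at hp
  have hone := bord_sub_scalar (1 : K) (0 : Fin n → K) c A 1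
  rw [one_smul, one_smul] at hone
  rw [hone, bord_mulVec, mulVec_add, mulVec_smul, hz, smul_cons]
  ext i
  refine Fin.cases ?_ (fun i => ?_) i
  · simp
  · have := congrFun hp i
    simp [vecTail] at this ⊢
    linear_combination -this

/-- a factorization `M * C = A` by cyclic matrices with polynomial `f`; `D p = det (p A)` -/
def Pair (f : K[X]) (D : K[X] → K) (M : Matrix (Fin n) (Fin n) K) : Prop :=
  ∃ A C w v, M * C = A ∧ Cyc f A w ∧ Cyc f Cᵀ v ∧ ∀ p, (aeval A p).det = D p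

/-- a `Pair` adapted to the column `c` and the row `r` -/
def Fac (f : K[X]) (D : K[X] → K) (M : Matrix (Fin n) (Fin n) K) (c r : Fin n → K) : Prop :=
  ∃ A C w v, M * C = A ∧ Cyc f A w ∧ Cyc f Cᵀ v ∧ (∀ p, (aeval A p).det = D p) ∧
    Near A c w ∧ Near Cᵀ r v

variable {D : K[X] → K} {M : Matrix (Fin n) (Fin n) K}

theorem Fac.pair {c r : Fin n → K} (h : Fac f D M c r) : Pair f D M := by
  obtain ⟨A, C, w, v, h1, h2, h3, h4, -, -⟩ := h
  exact ⟨A, C, w, v, h1, h2, h3, h4⟩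

theorem Pair.fac (h : Pair f D M) (hf : f.eval 1 ≠ 0) (c r : Fin n → K) : Fac f D M c r := by
  obtain ⟨A, C, w, v, h1, h2, h3, h4⟩ := h
  refine ⟨A, C, w, v, h1, h2, h3, h4, ?_, ?_⟩
  · obtain ⟨z, hz⟩ := exists_sol h2.ann hf (w - c)
    exact ⟨z, by rwa [one_smul] at hz⟩
  · obtain ⟨z, hz⟩ := exists_sol h3.ann hf (v - r)
    exact ⟨z, by rwa [one_smul] at hz⟩

/-- the inverse transpose -/
def contragredient (P : GL (Fin n) K) : GL (Fin n) K :=
  ⟨(P⁻¹.1)ᵀ, P.1ᵀ, by rw [← transpose_mul, Units.mul_inv, transpose_one],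
    by rw [← transpose_mul, Units.inv_mul, transpose_one]⟩

theorem transpose_conj (P : GL (Fin n) K) (C : Matrix (Fin n) (Fin n) K) :
    (P.1 * C * P⁻¹.1)ᵀ = (contragredient P).1 * Cᵀ * (contragredient P)⁻¹.1 := by
  rw [transpose_mul, transpose_mul, mul_assoc]
  rfl

theorem conj_mul_conj (P : GL (Fin n) K) (A B : Matrix (Fin n) (Fin n) K) :
    (P.1 * A * P⁻¹.1) * (P.1 * B * P⁻¹.1) = P.1 * (A * B) * P⁻¹.1 := by
  simp only [mul_assoc, Units.inv_mul_cancel_left]

theorem Fac.conj {c r : Fin n → K} (h : Fac f D M c r) (P : GL (Fin n) K) :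
    Fac f D (P.1 * M * P⁻¹.1) (P.1 *ᵥ c) (r ᵥ* P⁻¹.1) := by
  obtain ⟨A, C, w, v, h1, h2, h3, h4, h5, h6⟩ := h
  refine ⟨P.1 * A * P⁻¹.1, P.1 * C * P⁻¹.1, P.1 *ᵥ w, (contragredient P).1 *ᵥ v, ?_, h2.conj P,
    ?_, fun p => ?_, h5.conj P, ?_⟩
  · rw [conj_mul_conj, h1]
  · rw [transpose_conj]; exact h3.conj _
  · rw [aeval_conj', det_units_conj, h4]
  · rw [transpose_conj, show r ᵥ* P⁻¹.1 = (contragredient P).1 *ᵥ r from (mulVec_transpose _ _).symm]
    exact h6.conj _

theorem Pair.conj (h : Pair f D M) (P : GL (Fin n) K) : Pair f D (P.1 * M * P⁻¹.1) := by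
  obtain ⟨A, C, w, v, h1, h2, h3, h4⟩ := h
  refine ⟨P.1 * A * P⁻¹.1, P.1 * C * P⁻¹.1, P.1 *ᵥ w, (contragredient P).1 *ᵥ v, ?_, h2.conj P,
    ?_, fun p => ?_⟩
  · rw [conj_mul_conj, h1]
  · rw [transpose_conj]; exact h3.conj _
  · rw [aeval_conj', det_units_conj, h4]

theorem bord_factor {X' A C : Matrix (Fin n) (Fin n) K} {c r : Fin n → K}
    (h : (X' - vecMulVec c r) * C = A) (a : K) :
    bord 1 r c X' * bord a (-(r ᵥ* C)) 0 C = bord a 0 (a • c) A := by
  rw [bord_mul, ← h, sub_mul, vecMulVec_mul]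
  simp [sub_eq_add_neg, vecMulVec_neg, add_comm]

/-- enlarging a factorization by a root of `f = (X-1)^k g` equal to `1` -/
theorem Fac.step {X' : Matrix (Fin n) (Fin n) K} {c r : Fin n → K}
    (h : Fac f D (X' - vecMulVec c r) c r) (c₀ r₀ : Fin (n + 1) → K) (hc : c₀ 0 ≠ 0)
    (hr : r₀ 0 ≠ 0) :
    Fac ((X - C 1) * f) (fun p => p.eval 1 * D p) (bord 1 r c X') c₀ r₀ := by
  obtain ⟨A, C', w, v, h1, h2, h3, h4, h5, h6⟩ := h
  obtain ⟨w', hw', hw'2⟩ := h2.bord_near h5 c₀ hc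
  have h7 : Cyc f C'ᵀ (-v) := by simpa using h3.smul (k := -1) (by simp)
  obtain ⟨v', hv', hv'2⟩ := h7.bord_near h6.twist r₀ hr
  have hb := bord_factor h1 1
  rw [one_smul] at hb
  have ht : (bord 1 (-(r ᵥ* C')) 0 C')ᵀ = bord 1 0 (-(C'ᵀ *ᵥ r)) C'ᵀ := by
    rw [bord_transpose, mulVec_transpose]
  exact ⟨bord 1 0 c A, bord 1 (-(r ᵥ* C')) 0 C', w', v', hb, hw', ht ▸ hv',
    fun p => by rw [eval_bord_det, h4], hw'2, ht ▸ hv'2⟩

/-- enlarging a factorization by a new root -/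
theorem Pair.step {X' : Matrix (Fin n) (Fin n) K} {c r : Fin n → K}
    (h : Pair f D (X' - vecMulVec c r)) (a : K) (ha : f.eval a ≠ 0) :
    Pair ((X - C a) * f) (fun p => p.eval a * D p) (bord 1 r c X') := by
  obtain ⟨A, C', w, v, h1, h2, h3, h4⟩ := h
  obtain ⟨y, hy⟩ := exists_sol h2.ann ha (w - a • c)
  obtain ⟨y', hy'⟩ := exists_sol h3.ann ha (v - -(C'ᵀ *ᵥ r))
  have ht : (bord a (-(r ᵥ* C')) 0 C')ᵀ = bord a 0 (-(C'ᵀ *ᵥ r)) C'ᵀ := by
    rw [bord_transpose, mulVec_transpose]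
  exact ⟨bord a 0 (a • c) A, bord a (-(r ᵥ* C')) 0 C', vecCons 1 y, vecCons 1 y', bord_factor h1 a,
    h2.bord (by rw [hy]; abel), ht ▸ h3.bord (by rw [hy']; abel),
    fun p => by rw [eval_bord_det, h4]⟩

/-- the factorization in dimension one -/
theorem fac_one (c r : Fin 1 → K) (hc : c ≠ 0) (hr : r ≠ 0) :
    Fac (X - C 1) (fun p => p.eval 1) (1 : Matrix (Fin 1) (Fin 1) K) c r := by
  have key : ∀ x : Fin 1 → K, x ≠ 0 → Cyc (X - C 1) (1 : Matrix (Fin 1) (Fin 1) K) x := by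
    intro x hx
    refine ⟨monic_X_sub_C 1, natDegree_X_sub_C 1, by simp, fun p hp h0 => ?_⟩
    have hd : p.degree ≤ 0 := Nat.WithBot.lt_one_iff_le_zero.1 (by exact_mod_cast hp)
    rw [eq_C_of_degree_le_zero hd] at h0 ⊢
    rw [aeval_C, Algebra.algebraMap_eq_smul_one, smul_mulVec, one_mulVec] at h0
    rw [(smul_eq_zero.1 h0).resolve_right hx, map_zero]
  refine ⟨1, 1, c, r, mul_one 1, key c hc, by rw [transpose_one]; exact key r hr, fun p => ?_,
    ⟨0, by simp⟩, ⟨0, by simp⟩⟩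
  rw [aeval_def, det_fin_one, ← aeval_def]
  induction p using Polynomial.induction_on' with
  | add p q hp hq => simp [map_add, hp, hq]
  | monomial k b => simp [aeval_monomial, Matrix.algebraMap_matrix_apply]

/-- a nilpotent perturbation of `1` with a single Jordan block is cyclic for `(X - 1) ^ n` -/
theorem cyc_unipotent {A : Matrix (Fin n) (Fin n) K} {w : Fin n → K} (hn : (A - 1) ^ n = 0)
    (hw : (A - 1) ^ (n - 1) *ᵥ w ≠ 0) : Cyc ((X - C 1) ^ n) A w := by
  refine ⟨(monic_X_sub_C 1).pow n, by rw [natDegree_pow, natDegree_X_sub_C, mul_one],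
    by simp [hn], fun p hp h0 => ?_⟩
  by_contra hp0
  obtain ⟨s, hs, hs'⟩ := exists_eq_pow_rootMultiplicity_mul_and_not_dvd p hp0 1
  have hj : rootMultiplicity 1 p ≤ n - 1 := by
    have h1 : p.natDegree < n := (natDegree_lt_iff_degree_lt hp0).2 hp
    have h2 := natDegree_le_of_dvd (pow_rootMultiplicity_dvd p (1 : K)) hp0
    rw [natDegree_pow, natDegree_X_sub_C, mul_one] at h2
    omega
  obtain ⟨k, hk⟩ : ∃ k, n - 1 = k + rootMultiplicity 1 p := ⟨_, (Nat.sub_add_cancel hj).symm⟩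
  obtain ⟨t, ht⟩ := X_sub_C_dvd_sub_C_eval (a := (1 : K)) (p := s)
  have hst : s.eval 1 ≠ 0 := fun h => hs' (dvd_iff_isRoot.2 h)
  refine hw ?_
  have h1 : aeval A ((X - C 1) ^ k * p) *ᵥ w = 0 := by rw [map_mul, ← mulVec_mulVec, h0, mulVec_zero]
  have h2 : (X - C 1) ^ k * p = C (s.eval 1) * (X - C 1) ^ (n - 1) + t * ((X - C 1) ^ (n - 1) * (X - C 1)) := by
    rw [hs]
    conv_lhs => rw [show s = C (s.eval 1) + (X - C 1) * t by rw [← ht]; ring]
    rw [hk, pow_add]
    ring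
  have hn1 : 1 ≤ n := by
    rcases Nat.eq_zero_or_pos n with rfl | h
    · exact absurd (Subsingleton.elim _ _) hw
    · exact h
  rw [h2, ← pow_succ, Nat.sub_add_cancel hn1, map_add, map_mul, map_mul, map_pow, map_pow, map_sub,
    aeval_X, aeval_C, aeval_C, map_one, hn, mul_zero, add_zero,
    Algebra.algebraMap_eq_smul_one, smul_one_mul, smul_mulVec] at h1
  exact (smul_eq_zero.1 h1).resolve_left hst

theorem nilpotent_of_cyc {A : Matrix (Fin n) (Fin n) K} {w : Fin n → K}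
    (h : Cyc ((X - C 1) ^ n) A w) (hn : 1 ≤ n) :
    (A - 1) ^ n = 0 ∧ (A - 1) ^ (n - 1) *ᵥ w ≠ 0 := by
  refine ⟨by simpa using h.ann, fun h0 => ?_⟩
  have h1 := h.indep ((X - C 1) ^ (n - 1)) ?_ (by simpa using h0)
  · exact pow_ne_zero _ (X_sub_C_ne_zero 1) h1
  · rw [degree_pow, degree_X_sub_C, nsmul_one]
    exact_mod_cast Nat.sub_lt hn one_pos

/-- the inverse of a regular unipotent matrix is conjugate to it -/
theorem cyc_unipotent_inv {A B : Matrix (Fin n) (Fin n) K} {w : Fin n → K} (hn : 1 ≤ n)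
    (h : Cyc ((X - C 1) ^ n) A w) (hAB : A * B = 1) :
    ∃ w', Cyc ((X - C 1) ^ n) B w' := by
  obtain ⟨h1, h2⟩ := nilpotent_of_cyc h hn
  have hBA : B * A = 1 := mul_eq_one_comm.1 hAB
  have e : B - 1 = -B * (A - 1) := by rw [neg_mul, mul_sub, hBA, mul_one, neg_sub]
  have hcomm : Commute (-B) (A - 1) := by
    refine ((Commute.neg_left ?_).sub_right (Commute.one_right _))
    exact hBA.trans hAB.symm
  refine ⟨w, cyc_unipotent (by rw [e, hcomm.mul_pow, h1, mul_zero]) ?_⟩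
  rw [e, hcomm.mul_pow, ← mulVec_mulVec]
  intro h0
  refine h2 ?_
  have hinv : (-A) ^ (n - 1) * (-B) ^ (n - 1) = (1 : Matrix (Fin n) (Fin n) K) := by
    have hc : Commute (-A) (-B) := (show Commute A B from hAB.trans hBA.symm).neg_left.neg_right
    rw [← hc.mul_pow, neg_mul_neg, hAB, one_pow]
  have h3 := congrArg (fun v => (-A) ^ (n - 1) *ᵥ v) h0
  simpa [mulVec_mulVec, ← mul_assoc, hinv] using h3

/-- being a commutator of two matrices of determinant one -/
def IsComm {ι : Type*} [Fintype ι] [DecidableEq ι] (g : Matrix ι ι K) : Prop :=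
  ∃ a b : Matrix ι ι K, a.det = 1 ∧ b.det = 1 ∧ g * (b * a) = a * b

theorem Pair.isComm (h : Pair f D M) (hX : D X = 1)
    (hD : ∀ t : K, t ≠ 0 → ∃ p, D p = t) : IsComm M := by
  obtain ⟨A, C, w, v, h1, h2, h3, h4⟩ := h
  obtain ⟨u, hu⟩ := h3.transpose
  rw [transpose_transpose] at hu
  obtain ⟨Q, hQ⟩ := h2.similar hu
  have hQd : Q.1.det ≠ 0 := fun h0 => by
    have := congrArg Matrix.det Q.mul_inv
    rw [det_mul, h0, zero_mul, det_one] at this
    exact zero_ne_one this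
  obtain ⟨p, hp⟩ := hD Q.1.det⁻¹ (inv_ne_zero hQd)
  refine ⟨A, Q.1 * aeval A p, ?_, ?_, ?_⟩
  · have := h4 X
    rwa [aeval_X, hX] at this
  · rw [det_mul, h4, hp, mul_inv_cancel₀ hQd]
  · have hc : aeval A p * A = A * aeval A p := by
      conv_lhs => arg 2; rw [← aeval_X (R := K) A]
      conv_rhs => arg 1; rw [← aeval_X (R := K) A]
      rw [← map_mul, ← map_mul, mul_comm]
    calc M * (Q.1 * aeval A p * A) = M * (Q.1 * A) * aeval A p := by
          simp only [mul_assoc, hc]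
      _ = M * C * (Q.1 * aeval A p) := by rw [hQ]; simp only [mul_assoc]
      _ = A * (Q.1 * aeval A p) := by rw [h1]

end Cfsg.Agent.SLComm
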