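/-
Choice of a vector and a functional splitting off one row and one column of a matrix.
-/
import Cfsg.Agent.Lib.Classical.Commutator.Cyclic

set_option autoImplicit false

namespace Cfsg.Agent.SLComm

open Matrix Module

variable {K : Type*} [Field K]

theorem exists_notMem {V : Type*} [AddCommGroup V] [Module K V] (s : Finset K) :
    ∀ L : List (Submodule K V), (∀ p ∈ L, p ≠ ⊤) → L.length ≤ s.card → ∃ x, ∀ p ∈ L, x ∉ p := by
  intro L
  induction L with
  | nil => exact fun _ _ => ⟨0, by simp⟩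
  | cons p L ih =>
    intro h hs
    obtain ⟨x, hx⟩ := ih (fun q hq => h q (List.mem_cons_of_mem _ hq))
      (le_trans (Nat.le_succ _) hs)
    by_cases hxp : x ∈ p
    · obtain ⟨y, -, hy⟩ := SetLike.exists_of_lt (h p List.mem_cons_self).lt_top
      by_contra hc
      push Not at hc
      have key : ∀ t : K, ∃ i : Fin L.length, y + t • x ∈ L[i] := by
        intro t
        obtain ⟨q, hq, hq'⟩ := hc (y + t • x)
        rcases List.mem_cons.1 hq with rfl | hq
        · exact absurd ((q.add_mem_iff_left (q.smul_mem t hxp)).1 hq') hy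
        · obtain ⟨i, hi⟩ := List.get_of_mem hq
          exact ⟨i, by simpa [← hi] using hq'⟩
      choose g hg using key
      obtain ⟨a, -, b, -, hab, hg'⟩ := Finset.exists_ne_map_eq_of_card_lt_of_maps_to
        (s := s) (t := Finset.univ) (f := g) (by simpa using hs) (fun _ _ => Finset.mem_univ _)
      have h2 := Submodule.sub_mem _ (hg a) (hg' ▸ hg b)
      rw [add_sub_add_left_eq_sub, ← sub_smul, Submodule.smul_mem_iff _ (sub_ne_zero.2 hab)] at h2
      exact hx _ (List.getElem_mem _) h2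
    · exact ⟨x, fun q hq => by rcases List.mem_cons.1 hq with rfl | hq; exacts [hxp, hx q hq]⟩

theorem exists_smul_notMem {V : Type*} [AddCommGroup V] [Module K V] (s : Finset K)
    (Ls : List (Submodule K V)) (hs : Ls.length + 1 < s.card) (u w : V) (hw : ∀ p ∈ Ls, w ∉ p) :
    ∃ t : K, t ≠ 0 ∧ ∀ p ∈ Ls, u + t • w ∉ p := by
  classical
  by_contra hc
  push Not at hc
  have key : ∀ t ∈ s.erase 0, ∃ i : Fin Ls.length, u + t • w ∈ Ls[i] := by
    intro t ht
    obtain ⟨q, hq, hq'⟩ := hc t (Finset.ne_of_mem_erase ht)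
    obtain ⟨i, hi⟩ := List.get_of_mem hq
    exact ⟨i, by simpa [← hi] using hq'⟩
  have hcard : (Finset.univ : Finset (Fin Ls.length)).card < (s.erase 0).attach.card := by
    rw [Finset.card_univ, Fintype.card_fin, Finset.card_attach]
    have := Finset.pred_card_le_card_erase (a := (0 : K)) (s := s)
    omega
  choose g hg using key
  obtain ⟨a, -, b, -, hab, hg'⟩ := Finset.exists_ne_map_eq_of_card_lt_of_maps_to
    (f := fun x : {t // t ∈ s.erase 0} => g x.1 x.2) hcard (fun _ _ => Finset.mem_univ _)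
  have h2 := Submodule.sub_mem _ (hg a.1 a.2) (hg' ▸ hg b.1 b.2)
  rw [add_sub_add_left_eq_sub, ← sub_smul,
    Submodule.smul_mem_iff _ (sub_ne_zero.2 fun h => hab (Subtype.ext h))] at h2
  exact hw _ (List.getElem_mem _) h2

variable {k : ℕ}

/-- the functional of a vector -/
def dotL (u : Fin k → K) : (Fin k → K) →ₗ[K] K where
  toFun x := u ⬝ᵥ x
  map_add' := dotProduct_add u
  map_smul' a x := by simp

theorem mem_ker_dotL {u x : Fin k → K} : x ∈ LinearMap.ker (dotL u) ↔ u ⬝ᵥ x = 0 := Iff.rfl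

theorem exists_functional {p : Submodule K (Fin k → K)} {x : Fin k → K} (hx : x ∉ p) :
    ∃ d : Fin k → K, (∀ y ∈ p, d ⬝ᵥ y = 0) ∧ d ⬝ᵥ x ≠ 0 := by
  obtain ⟨f, hf, hf'⟩ := Submodule.exists_dual_map_eq_bot_of_notMem hx inferInstance
  have hd : ∀ y, (fun i => f (Pi.single i 1)) ⬝ᵥ y = f y := by
    intro y
    conv_rhs => rw [← Finset.univ_sum_single y]
    rw [map_sum, dotProduct]
    refine Finset.sum_congr rfl fun i _ => ?_
    rw [show Pi.single i (y i) = y i • Pi.single i (1 : K) by simp [← Pi.single_smul], map_smul,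
      smul_eq_mul, mul_comm]
  refine ⟨fun i => f (Pi.single i 1), fun y hy => ?_, by rwa [hd]⟩
  rw [hd]
  have : f y ∈ Submodule.map f p := Submodule.mem_map_of_mem hy
  rwa [hf', Submodule.mem_bot] at this

/-- functionals normalized at `v`, killing `y` and nonzero at given points -/
theorem exists_dot (s : Finset K) {v y : Fin k → K} (hv : v ∉ Submodule.span K {y})
    (xs : List (Fin k → K)) (hxs : ∀ x ∈ xs, x ∉ Submodule.span K {y}) (hs : xs.length + 1 ≤ s.card) :
    ∃ u, u ⬝ᵥ v = 1 ∧ u ⬝ᵥ y = 0 ∧ ∀ x ∈ xs, u ⬝ᵥ x ≠ 0 := by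
  let W : Submodule K (Fin k → K) := LinearMap.ker (dotL y)
  let P : (Fin k → K) → Submodule K W := fun x => Submodule.comap W.subtype (LinearMap.ker (dotL x))
  obtain ⟨u, hu⟩ := exists_notMem s ((v :: xs).map P) (fun p hp => by
      obtain ⟨x, hx, rfl⟩ := List.mem_map.1 hp
      have hx' : x ∉ Submodule.span K {y} := by
        rcases List.mem_cons.1 hx with rfl | hx
        exacts [hv, hxs x hx]
      obtain ⟨d, hd1, hd2⟩ := exists_functional hx'
      intro htop
      have hdW : d ∈ W := by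
        show y ⬝ᵥ d = 0
        rw [dotProduct_comm]
        exact hd1 y (Submodule.mem_span_singleton_self y)
      have hmem : (Subtype.mk d hdW : W) ∈ P x := htop ▸ Submodule.mem_top
      have hmem' : x ⬝ᵥ d = 0 := hmem
      exact hd2 (by rw [dotProduct_comm]; exact hmem')) (by simpa using hs)
  have h0 : ∀ x ∈ v :: xs, u.1 ⬝ᵥ x ≠ 0 := fun x hx h => hu _ (List.mem_map.2 ⟨x, hx, rfl⟩)
    (mem_ker_dotL.2 (by rw [dotProduct_comm]; exact h))
  have hv0 := h0 v List.mem_cons_self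
  refine ⟨(u.1 ⬝ᵥ v)⁻¹ • u.1, by rw [smul_dotProduct, smul_eq_mul, inv_mul_cancel₀ hv0], ?_,
    fun x hx => ?_⟩
  · have : u.1 ⬝ᵥ y = 0 := (dotProduct_comm _ _).trans u.2
    rw [smul_dotProduct, this, smul_zero]
  · rw [smul_dotProduct, smul_eq_mul]
    exact mul_ne_zero (inv_ne_zero hv0) (h0 x (List.mem_cons_of_mem _ hx))

variable (N : Matrix (Fin k) (Fin k) K)

/-- the range of a matrix -/
abbrev img : Submodule K (Fin k → K) := LinearMap.range N.mulVecLin

/-- the range of `N - μ` -/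
abbrev imgSub (μ : K) : Submodule K (Fin k → K) := img (N - μ • (1 : Matrix (Fin k) (Fin k) K))

/-- the kernel of `N - μ` -/
abbrev eigen (μ : K) : Submodule K (Fin k → K) :=
  LinearMap.ker (N - μ • (1 : Matrix (Fin k) (Fin k) K)).mulVecLin

variable {N}

theorem mem_eigen {μ : K} {x : Fin k → K} : x ∈ eigen N μ ↔ N *ᵥ x = μ • x := by
  rw [LinearMap.mem_ker, mulVecLin_apply, sub_mulVec, smul_mulVec, one_mulVec, sub_eq_zero]

variable (N)

/-- the scalars that could appear after splitting off one row and one column -/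
structure Bad (μ : K) : Prop where
  ne : μ ≠ 0
  pow : (μ + 1) ^ (k - 1) = 1
  small : finrank K (imgSub N μ) ≤ 2

/-- what is needed from the chosen vector and functional -/
structure Good (c r v u : Fin k → K) : Prop where
  uv : u ⬝ᵥ v = 1
  uNv : u ⬝ᵥ (N *ᵥ v) = 0
  rv : r ⬝ᵥ v ≠ 0
  uc : u ⬝ᵥ c ≠ 0
  Nv : N *ᵥ v ≠ 0
  uN : ∃ x, u ⬝ᵥ (N *ᵥ x) ≠ 0
  rank : 3 ≤ k → ∀ y, ∃ x, u ⬝ᵥ x = 0 ∧
    N *ᵥ x - (u ⬝ᵥ (N *ᵥ x)) • (v + N *ᵥ v) ∉ Submodule.span K {y}
  bad : 3 ≤ k → ∀ μ, Bad N μ → v ∉ imgSub N μ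

variable {N}

theorem eigen_finrank {μ : K} (h : Bad N μ) : k ≤ finrank K (eigen N μ) + 2 := by
  have := LinearMap.finrank_range_add_finrank_ker (N - μ • (1 : Matrix (Fin k) (Fin k) K)).mulVecLin
  rw [finrank_fin_fun] at this
  have h2 := h.small
  simp only [imgSub, img] at h2
  simp only [eigen]
  omega

theorem eigen_disjoint {μ μ' : K} (h : μ ≠ μ') : eigen N μ ⊓ eigen N μ' = ⊥ := by
  rw [Submodule.eq_bot_iff]
  rintro x ⟨h1, h2⟩
  rw [SetLike.mem_coe, mem_eigen] at h1 h2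
  have h3 : (μ - μ') • x = 0 := by rw [sub_smul, ← h1, h2, sub_self]
  exact (smul_eq_zero.1 h3).resolve_left (sub_ne_zero.2 h)

theorem eigen_le_imgSub {μ μ' : K} (h : μ ≠ μ') : eigen N μ' ≤ imgSub N μ := by
  intro x hx
  rw [mem_eigen] at hx
  refine ⟨(μ' - μ)⁻¹ • x, ?_⟩
  rw [mulVecLin_apply, mulVec_smul, sub_mulVec, smul_mulVec, one_mulVec, hx, ← sub_smul, smul_smul,
    inv_mul_cancel₀ (sub_ne_zero.2 h.symm), one_smul]

/-- two different bad scalars occur only in dimension four, swapping kernel and range -/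
theorem bad_two {μ μ' : K} (hk : 3 ≤ k) (h : Bad N μ) (h' : Bad N μ') (hne : μ ≠ μ') :
    k = 4 ∧ imgSub N μ' = eigen N μ ∧ eigen N μ ⊔ eigen N μ' = ⊤ := by
  have e1 := eigen_finrank h
  have e2 := eigen_finrank h'
  have h3 := Submodule.finrank_sup_add_finrank_inf_eq (eigen N μ) (eigen N μ')
  rw [eigen_disjoint hne, finrank_bot, add_zero] at h3
  have h4 : finrank K ↥(eigen N μ ⊔ eigen N μ') ≤ k := le_trans (Submodule.finrank_le _) (by simp)
  have hk4 : k = 4 := by
    rcases Nat.lt_or_ge k 4 with h5 | h5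
    · obtain rfl : k = 3 := by omega
      exfalso
      have p1 := h.pow
      have p2 := h'.pow
      norm_num at p1 p2
      have a1 := h.ne
      have a2 := h'.ne
      rcases p1 with p1 | p1 <;> rcases p2 with p2 | p2
      · exact a1 p1
      · exact a1 p1
      · exact a2 p2
      · exact hne (by linear_combination p1 - p2)
    · omega
  subst hk4
  refine ⟨rfl, (Submodule.eq_of_le_of_finrank_le (eigen_le_imgSub hne.symm) ?_).symm,
    Submodule.eq_top_of_finrank_eq (by rw [finrank_fin_fun]; omega)⟩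
  have := h'.small
  omega

theorem ne_top_of_finrank {p : Submodule K (Fin k → K)} (h : finrank K p < k) : p ≠ ⊤ := by
  rintro rfl
  rw [finrank_top, finrank_fin_fun] at h
  omega

theorem finrank_span_singleton_le (x : Fin k → K) : finrank K (Submodule.span K {x}) ≤ 1 := by
  by_cases hx : x = 0
  · subst hx; rw [Submodule.span_singleton_eq_bot.2 rfl, finrank_bot]; exact zero_le_one
  · rw [finrank_span_singleton hx]

theorem finrank_sup_le (p q : Submodule K (Fin k → K)) :
    finrank K ↥(p ⊔ q) ≤ finrank K p + finrank K q := by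
  have := Submodule.finrank_sup_add_finrank_inf_eq p q
  omega

theorem finrank_pair_le (x y : Fin k → K) :
    finrank K ↥(Submodule.span K {x} ⊔ Submodule.span K {y}) ≤ 2 :=
  le_trans (finrank_sup_le _ _)
    (add_le_add (finrank_span_singleton_le x) (finrank_span_singleton_le y))

theorem hyperplane_ne_top {r : Fin k → K} (hr : r ≠ 0) : LinearMap.ker (dotL r) ≠ ⊤ := by
  intro h
  refine hr (funext fun i => ?_)
  have : Pi.single i (1 : K) ∈ LinearMap.ker (dotL r) := h ▸ Submodule.mem_top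
  simpa [mem_ker_dotL, dotProduct_single] using (mem_ker_dotL.1 this)

theorem finrank_comap_le (N : Matrix (Fin k) (Fin k) K) (p : Submodule K (Fin k → K)) :
    finrank K ↥(p.comap N.mulVecLin) ≤ finrank K (LinearMap.ker N.mulVecLin) + finrank K p := by
  let g : ↥(p.comap N.mulVecLin) →ₗ[K] p := N.mulVecLin.restrict fun x hx => hx
  have h1 := LinearMap.finrank_range_add_finrank_ker g
  have h2 : finrank K (LinearMap.range g) ≤ finrank K p := Submodule.finrank_le _
  have h3 : (LinearMap.ker g).map (p.comap N.mulVecLin).subtype ≤ LinearMap.ker N.mulVecLin := by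
    rintro x ⟨y, hy, rfl⟩
    exact congrArg Subtype.val (hy : g y = 0)
  have h4 := Submodule.finrank_mono h3
  rw [Submodule.finrank_map_subtype_eq] at h4
  omega

/-! ### The singular case -/

section Singular

variable {c r v : Fin k → K} {k₀ : Fin k → K}

theorem singular_good (s : Finset K) (hs : 3 ≤ s.card) (hc : c ∉ Submodule.span K {N *ᵥ v})
    (hk0 : k₀ ∉ Submodule.span K {N *ᵥ v}) (hker : N *ᵥ k₀ = 0) (hrank : 2 ≤ finrank K (img N))
    (hrv : r ⬝ᵥ v ≠ 0) (hv : v ∉ img N) (hNv : N *ᵥ v ≠ 0)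
    (hbad : ∀ μ, Bad N μ → v ∉ imgSub N μ)
    (hu : 4 ≤ s.card ∨ (v ∈ img N ⊔ Submodule.span K {k₀} → img N ⊔ Submodule.span K {k₀} = ⊤) ∧ 4 ≤ k) :
    ∃ u, Good N c r v u := by
  have hvy : v ∉ Submodule.span K {N *ᵥ v} := fun h =>
    hv ((Submodule.span_le.2 (by simp [Set.singleton_subset_iff])) h)
  suffices h : ∃ u, u ⬝ᵥ v = 1 ∧ u ⬝ᵥ (N *ᵥ v) = 0 ∧ u ⬝ᵥ c ≠ 0 ∧ u ⬝ᵥ k₀ ≠ 0 ∧
      ∃ x, u ⬝ᵥ (N *ᵥ x) ≠ 0 by
    obtain ⟨u, h1, h2, h3, h4, h5⟩ := h
    refine ⟨u, h1, h2, hrv, h3, hNv, h5, fun _ y => ?_, fun _ => hbad⟩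
    by_contra hall
    push Not at hall
    have hle : img N ≤ Submodule.span K {y} ⊔ Submodule.span K {v + N *ᵥ v} := by
      rintro _ ⟨x, rfl⟩
      obtain ⟨x', hx', hNx⟩ : ∃ x', u ⬝ᵥ x' = 0 ∧ N *ᵥ x' = N *ᵥ x := by
        refine ⟨x - ((u ⬝ᵥ x) / (u ⬝ᵥ k₀)) • k₀, ?_, ?_⟩
        · rw [dotProduct_sub, dotProduct_smul, smul_eq_mul, div_mul_cancel₀ _ h4, sub_self]
        · rw [mulVec_sub, mulVec_smul, hker, smul_zero, sub_zero]
      have h6 := hall x' hx'
      rw [hNx] at h6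
      show N *ᵥ x ∈ _
      rw [← sub_add_cancel (N *ᵥ x) ((u ⬝ᵥ (N *ᵥ x)) • (v + N *ᵥ v))]
      exact Submodule.add_mem_sup h6 (Submodule.smul_mem _ _ (Submodule.mem_span_singleton_self _))
    have h7 := Submodule.eq_of_le_of_finrank_le hle (le_trans (finrank_pair_le _ _) hrank)
    have h8 : v + N *ᵥ v ∈ img N :=
      h7 ▸ Submodule.mem_sup_right (Submodule.mem_span_singleton_self _)
    exact hv (((img N).add_mem_iff_left ⟨v, rfl⟩).1 h8)
  obtain ⟨y₁, hy₁, hy₁'⟩ : ∃ y ∈ img N, y ∉ Submodule.span K {N *ᵥ v} := by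
    by_contra hall
    push Not at hall
    have := Submodule.finrank_mono (R := K) (show img N ≤ _ from hall)
    have := finrank_span_singleton_le (K := K) (N *ᵥ v)
    omega
  by_cases hs4 : 4 ≤ s.card
  · obtain ⟨u, h1, h2, h3⟩ := exists_dot s hvy [c, k₀, y₁] (by simp [hc, hk0, hy₁']) (by simpa using hs4)
    obtain ⟨x, rfl⟩ := hy₁
    exact ⟨u, h1, h2, h3 _ (by simp), h3 _ (by simp), x, h3 _ (by simp)⟩
  obtain ⟨hB, hk⟩ := hu.resolve_left hs4
  obtain ⟨u, h1, h2, h3⟩ := exists_dot s hvy [c, k₀] (by simp [hc, hk0]) (by simpa using hs)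
  have hcu := h3 c (by simp)
  have hku := h3 k₀ (by simp)
  by_cases h5 : ∃ x, u ⬝ᵥ (N *ᵥ x) ≠ 0
  · exact ⟨u, h1, h2, hcu, hku, h5⟩
  push Not at h5
  have hk0i : k₀ ∉ img N := by
    rintro ⟨x, rfl⟩
    exact hku (h5 x)
  let T : Submodule K (Fin k → K) :=
    Submodule.span K {v} ⊔ Submodule.span K {N *ᵥ v} ⊔ Submodule.span K {k₀}
  have hvT : v ∈ T := Submodule.mem_sup_left (Submodule.mem_sup_left (Submodule.mem_span_singleton_self v))
  have hkT : k₀ ∈ T := Submodule.mem_sup_right (Submodule.mem_span_singleton_self _)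
  have hTd : finrank K T ≤ 3 := le_trans (finrank_sup_le _ _)
    (add_le_add (finrank_pair_le _ _) (finrank_span_singleton_le _))
  by_cases hT : ∃ y ∈ img N, y ∉ T
  · obtain ⟨_, ⟨x, rfl⟩, hxT⟩ := hT
    obtain ⟨d, hd, hd'⟩ := exists_functional hxT
    obtain ⟨e, he0, he⟩ : ∃ e : K, e ≠ 0 ∧ u ⬝ᵥ c + e * (d ⬝ᵥ c) ≠ 0 := by
      by_cases hdc : d ⬝ᵥ c = 0
      · exact ⟨1, one_ne_zero, by simpa [hdc] using hcu⟩
      · obtain ⟨t, ht, ht'⟩ : ∃ t ∈ s, t ≠ 0 ∧ t ≠ -(u ⬝ᵥ c) / (d ⬝ᵥ c) := by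
          classical
          by_contra hall
          push Not at hall
          have : s ⊆ {0, -(u ⬝ᵥ c) / (d ⬝ᵥ c)} := fun t ht => by
            rcases eq_or_ne t 0 with h | h
            · simp [h]
            · simp [hall t ht h]
          have := le_trans (Finset.card_le_card this) Finset.card_le_two
          omega
        refine ⟨t, ht'.1, fun h => ht'.2 ?_⟩
        rw [eq_div_iff hdc]
        linear_combination h
    refine ⟨u + e • d, ?_, ?_, ?_, ?_, x, ?_⟩
    · simp [add_dotProduct, h1, hd v hvT]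
    · simp [add_dotProduct, h2, hd _ (Submodule.mem_sup_left (Submodule.mem_sup_right
        (Submodule.mem_span_singleton_self (N *ᵥ v))))]
    · simpa [add_dotProduct] using he
    · simpa [add_dotProduct, hd _ hkT] using hku
    · simp [add_dotProduct, h5 x, he0]
      exact hd'
  push Not at hT
  exfalso
  have hlt : img N ⊔ Submodule.span K {k₀} ≤ T :=
    sup_le (fun y hy => hT y hy) le_sup_right
  have hi : img N < T := by
    refine lt_of_le_of_ne (fun y hy => hT y hy) fun h => hk0i (h ▸ hkT)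
  have hi2 := Submodule.finrank_lt_finrank_of_lt hi
  have hsup : img N < img N ⊔ Submodule.span K {k₀} := by
    refine lt_of_le_of_ne le_sup_left fun h => hk0i ?_
    rw [h]; exact Submodule.mem_sup_right (Submodule.mem_span_singleton_self _)
  have hs2 := Submodule.finrank_lt_finrank_of_lt hsup
  have heq := Submodule.eq_of_le_of_finrank_le hlt (by omega)
  exact ne_top_of_finrank (k := k) (p := T) (by omega) (heq ▸ hB (heq ▸ hvT))

theorem exists_kernel_vector (hk : 4 ≤ k) (hc0 : c ≠ 0) (hrank : 2 ≤ finrank K (img N))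
    (hsing : LinearMap.ker N.mulVecLin ≠ ⊥) :
    ∃ k₀, N *ᵥ k₀ = 0 ∧ k₀ ≠ 0 ∧
      ¬ img N ≤ Submodule.span K {c} ⊔ Submodule.span K {k₀} := by
  by_cases h1 : LinearMap.ker N.mulVecLin ≤ img N
  · by_cases h2 : c ∈ LinearMap.ker N.mulVecLin
    · refine ⟨c, h2, hc0, fun h => ?_⟩
      rw [sup_idem] at h
      have := Submodule.finrank_mono h
      have := finrank_span_singleton_le c
      omega
    · obtain ⟨x, hx, hx0⟩ := (Submodule.ne_bot_iff _).1 hsing
      refine ⟨x, hx, hx0, fun h => h2 ?_⟩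
      have h3 := Submodule.eq_of_le_of_finrank_le h (le_trans (finrank_pair_le _ _) hrank)
      have h4 := LinearMap.finrank_range_add_finrank_ker N.mulVecLin
      rw [finrank_fin_fun] at h4
      have h5 : finrank K (img N) ≤ 2 := by rw [h3]; exact finrank_pair_le _ _
      have h7 : LinearMap.ker N.mulVecLin = img N := by
        refine Submodule.eq_of_le_of_finrank_le h1 ?_
        simp only [img] at h5 ⊢
        omega
      rw [h7, h3]
      exact Submodule.mem_sup_left (Submodule.mem_span_singleton_self c)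
  · obtain ⟨x, hx, hx'⟩ := SetLike.not_le_iff_exists.1 h1
    refine ⟨x, hx, fun h => hx' (h ▸ Submodule.zero_mem _), fun h => hx' ?_⟩
    rw [Submodule.eq_of_le_of_finrank_le h (le_trans (finrank_pair_le _ _) hrank)]
    exact Submodule.mem_sup_right (Submodule.mem_span_singleton_self _)

theorem exists_five (s : Finset K) (hs : 4 ≤ s.card) (h2 : (2 : K) ≠ 0) :
    ∃ s' : Finset K, 5 ≤ s'.card := by
  classical
  obtain ⟨x, -, hx⟩ : ∃ x ∈ s, x ∉ ({0, 1, -1} : Finset K) := by
    by_contra hall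
    push Not at hall
    have := le_trans (Finset.card_le_card (fun x hx => hall x hx : s ⊆ ({0, 1, -1} : Finset K)))
      Finset.card_le_three
    omega
  simp only [Finset.mem_insert, Finset.mem_singleton, not_or] at hx
  obtain ⟨hx0, hx1, hx2⟩ := hx
  refine ⟨{0, 1, -1, x, -x}, le_of_eq ?_⟩
  have e1 : (1 : K) ≠ -1 := fun h => h2 (by linear_combination h)
  have e2 : x ≠ -x := fun h => by
    have : 2 * x = 0 := by linear_combination h
    exact (mul_ne_zero h2 hx0) this
  have e3 : (1 : K) ≠ -x := fun h => hx2 (by linear_combination h)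
  have e4 : (-1 : K) ≠ -x := fun h => hx1 (by linear_combination h)
  rw [Finset.card_insert_of_notMem (by simp [eq_comm, hx0]),
    Finset.card_insert_of_notMem (by simp [e1, Ne.symm hx1, e3]),
    Finset.card_insert_of_notMem (by simp [Ne.symm hx2, e4]),
    Finset.card_insert_of_notMem (by simp [e2]), Finset.card_singleton]

theorem choose_singular (s : Finset K) (hs : 3 ≤ s.card) (hsk : 4 ≤ s.card ∨ 4 ≤ k) (hk : 3 ≤ k)
    (hbad3 : s.card < 4 → ∀ μ, Bad N μ → k ≠ 4) (hc0 : c ≠ 0) (hr0 : r ≠ 0)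
    (hrank : 2 ≤ finrank K (img N)) (hsing : LinearMap.ker N.mulVecLin ≠ ⊥) :
    ∃ v u, Good N c r v u := by
  classical
  have himg : img N ≠ ⊤ := by
    refine ne_top_of_finrank ?_
    have h1 := LinearMap.finrank_range_add_finrank_ker N.mulVecLin
    have h2 : finrank K (LinearMap.ker N.mulVecLin) ≠ 0 := fun h => hsing (Submodule.finrank_eq_zero.1 h)
    rw [finrank_fin_fun] at h1
    simp only [img]
    omega
  obtain ⟨y₀, hy₀, hy₀0⟩ := (Submodule.ne_bot_iff _).1 hsing
  have huniq : ∀ μ μ', Bad N μ → Bad N μ' → μ = μ' := by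
    intro μ μ' h h'
    by_contra hne
    obtain ⟨-, -, htop⟩ := bad_two hk h h' hne
    obtain ⟨p, hp, p', hp', hpp⟩ := Submodule.mem_sup.1 (htop ▸ Submodule.mem_top : y₀ ∈ eigen N μ ⊔ eigen N μ')
    rw [mem_eigen] at hp hp'
    have h0 : N *ᵥ y₀ = 0 := hy₀
    rw [← hpp, mulVec_add, hp, hp'] at h0
    have h1 : μ • p ∈ eigen N μ ⊓ eigen N μ' := by
      refine ⟨Submodule.smul_mem _ _ (mem_eigen.2 hp), ?_⟩
      rw [eq_neg_of_add_eq_zero_left h0]
      exact Submodule.neg_mem _ (Submodule.smul_mem _ _ (mem_eigen.2 hp'))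
    rw [eigen_disjoint hne, Submodule.mem_bot, smul_eq_zero] at h1
    have hp0 := h1.resolve_left h.ne
    rw [hp0, zero_add] at hpp
    rw [hp0, smul_zero, zero_add, smul_eq_zero] at h0
    exact hy₀0 (hpp ▸ h0.resolve_left h'.ne)
  -- the subspace attached to the bad scalar
  obtain ⟨R, hR, hR2, hR0, hRne⟩ : ∃ R : Submodule K (Fin k → K), (∀ μ, Bad N μ → imgSub N μ ≤ R) ∧
      finrank K R ≤ 2 ∧ (R ≠ ⊥ → LinearMap.ker N.mulVecLin ≤ R) ∧ (R ≠ ⊥ → ∃ μ, Bad N μ) := by
    by_cases hb : ∃ μ, Bad N μ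
    · obtain ⟨μ, hμ⟩ := hb
      refine ⟨imgSub N μ, fun μ' hμ' => by rw [huniq μ' μ hμ' hμ], hμ.small, fun _ => ?_,
        fun _ => ⟨μ, hμ⟩⟩
      intro x hx
      refine eigen_le_imgSub (μ' := 0) hμ.ne (mem_eigen.2 ?_)
      rw [zero_smul]; exact hx
    · push Not at hb
      exact ⟨⊥, fun μ h => absurd h (hb μ), by simp, fun h => absurd rfl h, fun h => absurd rfl h⟩
  have hRtop : R ≠ ⊤ := ne_top_of_finrank (by omega)
  have key : ∀ v k₀, N *ᵥ k₀ = 0 → k₀ ≠ 0 → c ∉ Submodule.span K {N *ᵥ v} →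
      k₀ ∉ Submodule.span K {N *ᵥ v} → v ∉ LinearMap.ker (dotL r) → v ∉ img N → N *ᵥ v ≠ 0 →
      v ∉ R →
      (4 ≤ s.card ∨ (v ∈ img N ⊔ Submodule.span K {k₀} → img N ⊔ Submodule.span K {k₀} = ⊤) ∧ 4 ≤ k) →
      ∃ v u, Good N c r v u :=
    fun v k₀ h1 _ h3 h4 h5 h6 h7 h8 h9 => ⟨v, singular_good s hs h3 h4 h1 hrank h5 h6 h7
      (fun μ hμ h => h8 (hR μ hμ h)) h9⟩
  have aux : ∀ {x y : Fin k → K}, x ≠ 0 → ∀ {p : Submodule K (Fin k → K)}, x ∈ p → y ∉ p →
      x ∉ Submodule.span K {y} := by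
    intro x y hx p hxp hyp h
    obtain ⟨a, ha⟩ := Submodule.mem_span_singleton.1 h
    have ha0 : a ≠ 0 := fun h0 => hx (by rw [← ha, h0, zero_smul])
    exact hyp ((p.smul_mem_iff ha0).1 (ha ▸ hxp))
  rcases Nat.lt_or_ge k 4 with hk4 | hk4
  · -- dimension three
    obtain rfl : k = 3 := by omega
    have hs4 : 4 ≤ s.card := by omega
    let C₁ := (Submodule.span K {c}).comap N.mulVecLin
    let C₂ := (Submodule.span K {y₀}).comap N.mulVecLin
    have hC : ∀ x : Fin 3 → K, (Submodule.span K {x}).comap N.mulVecLin ≠ ⊤ := by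
      intro x h
      have h1 : img N ≤ Submodule.span K {x} := by
        rintro _ ⟨y, rfl⟩
        exact Submodule.mem_comap.1 (h ▸ Submodule.mem_top)
      have := Submodule.finrank_mono h1
      have := finrank_span_singleton_le x
      omega
    obtain ⟨s', hlen⟩ : ∃ s' : Finset K, 4 + (if R = ⊥ then 0 else 1) ≤ s'.card := by
      by_cases hRb : R = ⊥
      · exact ⟨s, by rw [if_pos hRb]; simpa using hs4⟩
      · rw [if_neg hRb]
        obtain ⟨μ, hμ⟩ := hRne hRb
        refine exists_five s hs4 fun h2 => hμ.ne ?_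
        have h3 : μ * μ = 0 := by linear_combination hμ.pow - μ * h2
        simpa using h3
    obtain ⟨v, hv⟩ := exists_notMem s'
      ([LinearMap.ker (dotL r), img N, C₁, C₂] ++ if R = ⊥ then [] else [R]) (fun p hp => by
        rcases List.mem_append.1 hp with hp | hp
        · simp only [List.mem_cons, List.not_mem_nil, or_false] at hp
          rcases hp with rfl | rfl | rfl | rfl
          exacts [hyperplane_ne_top hr0, himg, hC c, hC y₀]
        · split at hp
          · simp at hp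
          · simp at hp; subst hp; exact hRtop) (by
        rw [List.length_append]
        split_ifs with hRb <;> simp [hRb] at hlen ⊢ <;> omega)
    have h1 := hv (LinearMap.ker (dotL r)) (by simp)
    have h2 := hv (img N) (by simp)
    have h3 : N *ᵥ v ∉ Submodule.span K {c} := hv C₁ (by simp)
    have h4 : N *ᵥ v ∉ Submodule.span K {y₀} := hv C₂ (by simp)
    refine key v y₀ hy₀ hy₀0 (aux hc0 (Submodule.mem_span_singleton_self _) h3)
      (aux hy₀0 (Submodule.mem_span_singleton_self _) h4) h1 h2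
      (fun h => h3 (h ▸ Submodule.zero_mem _)) ?_ (Or.inl hs4)
    by_cases hRb : R = ⊥
    · rw [hRb, Submodule.mem_bot]
      rintro rfl
      exact h2 (Submodule.zero_mem _)
    · exact hv R (by simp [hRb])
  · -- dimension at least four
    obtain ⟨k₀, hk₀, hk₀0, hk₀'⟩ := exists_kernel_vector hk4 hc0 hrank hsing
    let P₂ := Submodule.span K {c} ⊔ Submodule.span K {k₀}
    let C := P₂.comap N.mulVecLin
    have hCtop : C ≠ ⊤ := by
      intro h
      refine hk₀' ?_
      rintro _ ⟨y, rfl⟩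
      have hy : y ∈ C := by rw [h]; exact Submodule.mem_top
      exact hy
    let B := if img N ⊔ Submodule.span K {k₀} = ⊤ then img N else img N ⊔ Submodule.span K {k₀}
    have hBtop : B ≠ ⊤ := by
      simp only [B]
      split
      exacts [himg, ‹_›]
    obtain ⟨L, hL, hLlen, hA, hB, hCm, hRm⟩ : ∃ L : List (Submodule K (Fin k → K)),
        (∀ p ∈ L, p ≠ ⊤) ∧ L.length ≤ s.card ∧ LinearMap.ker (dotL r) ∈ L ∧ B ∈ L ∧
        (∃ p ∈ L, C ≤ p) ∧ (∃ p ∈ L, R ≤ p) := by
      by_cases hs5 : 4 ≤ s.card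
      · refine ⟨[LinearMap.ker (dotL r), B, C, R], ?_, by simpa using hs5, by simp, by simp,
          ⟨C, by simp, le_rfl⟩, ⟨R, by simp, le_rfl⟩⟩
        simp [hyperplane_ne_top hr0, hBtop, hCtop, hRtop]
      · refine ⟨[LinearMap.ker (dotL r), B, C ⊔ R], ?_, by simpa using hs, by simp, by simp,
          ⟨C ⊔ R, by simp, le_sup_left⟩, ⟨C ⊔ R, by simp, le_sup_right⟩⟩
        have hCR : C ⊔ R ≠ ⊤ := by
          by_cases hRb : R = ⊥
          · rw [hRb, sup_bot_eq]; exact hCtop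
          · refine ne_top_of_finrank ?_
            obtain ⟨μ, hμ⟩ := hRne hRb
            have hk5 := hbad3 (by omega) μ hμ
            have h1 := Submodule.finrank_sup_add_finrank_inf_eq C R
            have h2 : LinearMap.ker N.mulVecLin ≤ C ⊓ R := le_inf (fun x hx => by
              show N *ᵥ x ∈ P₂
              rw [show N *ᵥ x = 0 from hx]; exact Submodule.zero_mem _) (hR0 hRb)
            have h3 := Submodule.finrank_mono h2
            have h4 : finrank K C ≤ _ := finrank_comap_le N P₂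
            have h5 : finrank K P₂ ≤ 2 := finrank_pair_le c k₀
            omega
        simp [hyperplane_ne_top hr0, hBtop, hCR]
    obtain ⟨v, hv⟩ := exists_notMem s L hL hLlen
    obtain ⟨p, hp, hCp⟩ := hCm
    obtain ⟨p', hp', hRp⟩ := hRm
    have hvC : N *ᵥ v ∉ P₂ := fun h => hv p hp (hCp h)
    have hvB := hv B hB
    have hvi : v ∉ img N := by
      intro h
      refine hvB ?_
      simp only [B]
      split
      exacts [h, Submodule.mem_sup_left h]
    refine key v k₀ hk₀ hk₀0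
      (aux hc0 (Submodule.mem_sup_left (Submodule.mem_span_singleton_self _)) hvC)
      (aux hk₀0 (Submodule.mem_sup_right (Submodule.mem_span_singleton_self _)) hvC) (hv _ hA) hvi
      (fun h => hvC (h ▸ Submodule.zero_mem _)) (fun h => hv p' hp' (hRp h))
      (Or.inr ⟨fun h => ?_, hk4⟩)
    by_contra hne
    refine hvB ?_
    simp only [B, if_neg hne]
    exact h

end Singular

/-! ### The invertible case -/

theorem exists_noneigen (s : Finset K) (Ls : List (Submodule K (Fin k → K)))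
    (C : Submodule K (Fin k → K)) (hs : Ls.length + 2 ≤ s.card) (hLs : ∀ p ∈ Ls, p ≠ ⊤)
    (hC : ∀ u, Submodule.span K {u} ⊔ C ≠ ⊤) (hns : ∀ μ, eigen N μ ≠ ⊤) :
    ∃ v, v ∉ C ∧ (∀ p ∈ Ls, v ∉ p) ∧ ∀ μ, v ∉ eigen N μ := by
  have hC0 : C ≠ ⊤ := fun h => hC 0 (by simp [h])
  obtain ⟨u, hu⟩ := exists_notMem s (C :: Ls) (fun p hp => by
    rcases List.mem_cons.1 hp with rfl | hp
    exacts [hC0, hLs p hp]) (by simp; omega)
  by_cases he : ∀ μ, u ∉ eigen N μ
  · exact ⟨u, hu C List.mem_cons_self, fun p hp => hu p (List.mem_cons_of_mem _ hp), he⟩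
  push Not at he
  obtain ⟨a, ha⟩ := he
  obtain ⟨w, hw⟩ := exists_notMem s ((Submodule.span K {u} ⊔ C) :: eigen N a :: Ls) (fun p hp => by
    simp only [List.mem_cons] at hp
    rcases hp with rfl | rfl | hp
    exacts [hC u, hns a, hLs p hp]) (by simp; omega)
  have hwC : w ∉ Submodule.span K {u} ⊔ C := hw _ (by simp)
  have hwa : w ∉ eigen N a := hw _ (by simp)
  have hwL : ∀ p ∈ Ls, w ∉ p := fun p hp => hw p (by simp [hp])
  by_cases he' : ∀ μ, w ∉ eigen N μ
  · exact ⟨w, fun h => hwC (Submodule.mem_sup_right h), hwL, he'⟩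
  push Not at he'
  obtain ⟨b, hb⟩ := he'
  obtain ⟨t, ht, ht'⟩ := exists_smul_notMem s Ls (by omega) u w hwL
  refine ⟨u + t • w, fun h => hwC ?_, ht', fun μ hμ => ?_⟩
  · have h2 := Submodule.add_mem (Submodule.span K {u} ⊔ C) (Submodule.mem_sup_right h)
      (Submodule.mem_sup_left (Submodule.neg_mem _ (Submodule.mem_span_singleton_self u)))
    rw [add_neg_cancel_comm, Submodule.smul_mem_iff _ ht] at h2
    exact h2
  · rw [mem_eigen] at hμ ha hb
    rw [mulVec_add, mulVec_smul, ha, hb] at hμ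
    have h1 : (a - μ) • u + (t * (b - μ)) • w = 0 := by
      rw [smul_add, ← sub_eq_zero] at hμ
      rw [← hμ]
      module
    have hab : b ≠ a := fun h => hwa (mem_eigen.2 (h ▸ hb))
    by_cases hbm : b = μ
    · rw [hbm, sub_self, mul_zero, zero_smul, add_zero, smul_eq_zero, sub_eq_zero] at h1
      rcases h1 with h1 | h1
      · exact hab (hbm.trans h1.symm)
      · exact hu C List.mem_cons_self (h1 ▸ Submodule.zero_mem _)
    · have hcw : t * (b - μ) ≠ 0 := mul_ne_zero ht (sub_ne_zero.2 hbm)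
      refine hwC (Submodule.mem_sup_left ?_)
      rw [← Submodule.smul_mem_iff _ hcw, eq_neg_of_add_eq_zero_right h1]
      exact Submodule.neg_mem _ (Submodule.smul_mem _ _ (Submodule.mem_span_singleton_self u))

theorem det_three_contra {N : Matrix (Fin 3) (Fin 3) K} {v : Fin 3 → K} {b : K} (hN : N.det ≠ 0)
    (hdet : (1 + N).det = 1) (hv : v ∉ Submodule.span K {N *ᵥ v}) (hNv : N *ᵥ v ≠ 0)
    (h : b • (N *ᵥ (N *ᵥ v)) = v + N *ᵥ v) : False := by
  have hb : b ≠ 0 := by
    rintro rfl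
    rw [zero_smul] at h
    exact hv (Submodule.mem_span_singleton.2 ⟨-1, by
      rw [neg_one_smul]; exact (eq_neg_of_add_eq_zero_left h.symm).symm⟩)
  obtain ⟨w, -, hw⟩ := SetLike.exists_of_lt (ne_top_of_finrank (k := 3)
    (p := Submodule.span K {v} ⊔ Submodule.span K {N *ᵥ v})
    (lt_of_le_of_lt (finrank_pair_le _ _) (by norm_num))).lt_top
  let P : Matrix (Fin 3) (Fin 3) K := Matrix.of fun i j => ![v, N *ᵥ v, w] j i
  have hP : ∀ x : Fin 3 → K, P *ᵥ x = x 0 • v + x 1 • (N *ᵥ v) + x 2 • w := by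
    intro x
    funext i
    simp [P, mulVec, dotProduct, Fin.sum_univ_three]
    ring
  have hPd : IsUnit P.det := by
    rw [← Matrix.isUnit_iff_isUnit_det, ← Matrix.mulVec_injective_iff_isUnit]
    intro x x' hxx
    rw [← sub_eq_zero]
    have h0 : P *ᵥ (x - x') = 0 := by rw [mulVec_sub, hxx, sub_self]
    rw [hP] at h0
    generalize x - x' = y at h0
    have h2 : y 2 = 0 := by
      by_contra h2
      refine hw ((Submodule.smul_mem_iff _ h2).1 ?_)
      rw [eq_neg_of_add_eq_zero_right h0]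
      exact Submodule.neg_mem _ (Submodule.add_mem_sup
        (Submodule.smul_mem _ _ (Submodule.mem_span_singleton_self _))
        (Submodule.smul_mem _ _ (Submodule.mem_span_singleton_self _)))
    rw [h2, zero_smul, add_zero] at h0
    have h00 : y 0 = 0 := by
      by_contra h00
      refine hv ((Submodule.smul_mem_iff _ h00).1 ?_)
      rw [eq_neg_of_add_eq_zero_left h0]
      exact Submodule.neg_mem _ (Submodule.smul_mem _ _ (Submodule.mem_span_singleton_self _))
    rw [h00, zero_smul, zero_add, smul_eq_zero] at h0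
    funext i
    fin_cases i
    exacts [h00, h0.resolve_right hNv, h2]
  let T := P⁻¹ * N * P
  have hPT : P * T = N * P := by rw [← mul_assoc, ← mul_assoc, Matrix.mul_nonsing_inv _ hPd, one_mul]
  have hcol : ∀ j : Fin 3, ∀ x : Fin 3 → K, N *ᵥ ![v, N *ᵥ v, w] j = P *ᵥ x → ∀ i, T i j = x i := by
    intro j x hx i
    have h1 : T *ᵥ Pi.single j 1 = x := by
      refine Matrix.mulVec_injective_iff_isUnit.2 ((Matrix.isUnit_iff_isUnit_det _).2 hPd) ?_
      show P *ᵥ (T *ᵥ Pi.single j 1) = P *ᵥ x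
      rw [mulVec_mulVec, hPT, ← hx, ← mulVec_mulVec, mulVec_single_one]
      rfl
    rw [← h1, mulVec_single_one]
    rfl
  have c0 := hcol 0 ![0, 1, 0] (by rw [hP]; simp)
  have c1 := hcol 1 ![b⁻¹, b⁻¹, 0] (by
    rw [hP]
    simp
    rw [← smul_add, ← h, smul_smul, inv_mul_cancel₀ hb, one_smul, mulVec_mulVec])
  have hdT : T.det = N.det := by
    show (P⁻¹ * N * P).det = N.det
    rw [det_mul, det_mul, mul_right_comm, ← det_mul, Matrix.nonsing_inv_mul _ hPd, det_one, one_mul]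
  have hdT1 : (1 + T).det = 1 := by
    have : 1 + T = P⁻¹ * (1 + N) * P := by
      show 1 + P⁻¹ * N * P = _
      rw [mul_add, add_mul, mul_one, Matrix.nonsing_inv_mul _ hPd]
    rw [this, det_mul, det_mul, mul_right_comm, ← det_mul, Matrix.nonsing_inv_mul _ hPd, det_one,
      one_mul, hdet]
  rw [det_fin_three] at hdT hdT1
  simp [Matrix.add_apply, Matrix.one_apply, c0 0, c0 1, c0 2, c1 0, c1 1, c1 2] at hdT hdT1
  refine hN ?_
  rw [← hdT]
  linear_combination -b⁻¹ * hdT1

theorem choose_invertible (s : Finset K) (hs : 3 ≤ s.card) (hk : 2 ≤ k)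
    (hsk : 4 ≤ s.card ∨ 4 ≤ k) (hbad3 : s.card < 4 → ∀ μ, Bad N μ → k ≠ 4) {c r : Fin k → K}
    (hc0 : c ≠ 0) (hr0 : r ≠ 0) (hN : N.det ≠ 0) (hdet : (1 + N).det = 1)
    (hns : ∀ μ, eigen N μ ≠ ⊤) : ∃ v u, Good N c r v u := by
  classical
  have hinj : Function.Injective fun x => N *ᵥ x :=
    Matrix.mulVec_injective_iff_isUnit.2 ((Matrix.isUnit_iff_isUnit_det _).2 (isUnit_iff_ne_zero.2 hN))
  have hsurj : ∀ x, ∃ y, N *ᵥ y = x := fun x => ⟨N⁻¹ *ᵥ x, by
    rw [mulVec_mulVec, Matrix.mul_nonsing_inv _ (isUnit_iff_ne_zero.2 hN), one_mulVec]⟩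
  let C := (Submodule.span K {c}).comap N.mulVecLin
  have hker : LinearMap.ker N.mulVecLin = ⊥ := LinearMap.ker_eq_bot.2 hinj
  have hC1 : finrank K C ≤ 1 := by
    have := finrank_comap_le N (Submodule.span K {c})
    rw [hker, finrank_bot, zero_add] at this
    exact le_trans this (finrank_span_singleton_le c)
  have main : ∀ v, v ∉ C → r ⬝ᵥ v ≠ 0 → (∀ μ, v ∉ eigen N μ) →
      (3 ≤ k → ∀ μ, Bad N μ → v ∉ imgSub N μ) → ∃ v u, Good N c r v u := by
    intro v hvC hrv hne hbad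
    have hNv : N *ᵥ v ≠ 0 := fun h => hne 0 (mem_eigen.2 (by rw [h, zero_smul]))
    have hvy : v ∉ Submodule.span K {N *ᵥ v} := by
      intro h
      obtain ⟨a, ha⟩ := Submodule.mem_span_singleton.1 h
      have ha0 : a ≠ 0 := fun h0 => hne 0 (mem_eigen.2 (by rw [← ha, h0]; simp))
      refine hne a⁻¹ (mem_eigen.2 ?_)
      conv_rhs => rw [← ha, smul_smul, inv_mul_cancel₀ ha0, one_smul]
    have hcy : c ∉ Submodule.span K {N *ᵥ v} := by
      intro h
      obtain ⟨a, ha⟩ := Submodule.mem_span_singleton.1 h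
      have ha0 : a ≠ 0 := fun h0 => hc0 (by rw [← ha, h0, zero_smul])
      refine hvC (Submodule.mem_comap.2 ?_)
      show N *ᵥ v ∈ Submodule.span K {c}
      rw [Submodule.mem_span_singleton]
      exact ⟨a⁻¹, by rw [← ha, smul_smul, inv_mul_cancel₀ ha0, one_smul]⟩
    obtain ⟨z, hz⟩ := hsurj (v + N *ᵥ v)
    obtain ⟨u, h1, h2, h3, h3z⟩ : ∃ u, u ⬝ᵥ v = 1 ∧ u ⬝ᵥ (N *ᵥ v) = 0 ∧ u ⬝ᵥ c ≠ 0 ∧
        (k = 3 → u ⬝ᵥ z ≠ 0) := by
      by_cases hk3 : k = 3
      · subst hk3
        have hzy : z ∉ Submodule.span K {N *ᵥ v} := by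
          intro h
          obtain ⟨a, ha⟩ := Submodule.mem_span_singleton.1 h
          exact det_three_contra hN hdet hvy hNv (b := a) (by rw [← mulVec_smul, ha, hz])
        obtain ⟨u, h1, h2, h3⟩ := exists_dot s hvy [c, z] (by simp [hcy, hzy]) (by simpa using hs)
        exact ⟨u, h1, h2, h3 _ (by simp), fun _ => h3 _ (by simp)⟩
      · obtain ⟨u, h1, h2, h3⟩ := exists_dot s hvy [c] (by simp [hcy]) (by simp; omega)
        exact ⟨u, h1, h2, h3 _ (by simp), fun h => absurd h hk3⟩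
    refine ⟨v, u, h1, h2, hrv, h3, hNv, ?_, fun hk3 y => ?_, hbad⟩
    · obtain ⟨x, hx⟩ := hsurj v
      exact ⟨x, by rw [hx, h1]; exact one_ne_zero⟩
    · by_contra hall
      push Not at hall
      let S := Submodule.span K {y} ⊔ Submodule.span K {v + N *ᵥ v}
      let U := LinearMap.ker (dotL u)
      have hle : U.map N.mulVecLin ≤ S := by
        rintro _ ⟨x, hx, rfl⟩
        show N *ᵥ x ∈ S
        rw [← sub_add_cancel (N *ᵥ x) ((u ⬝ᵥ (N *ᵥ x)) • (v + N *ᵥ v))]
        exact Submodule.add_mem_sup (hall x hx)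
          (Submodule.smul_mem _ _ (Submodule.mem_span_singleton_self _))
      have hU : finrank K U + 1 = k := by
        have h4 := LinearMap.finrank_range_add_finrank_ker (dotL u)
        rw [finrank_fin_fun] at h4
        have h5 : finrank K (LinearMap.range (dotL u)) = 1 := by
          rw [LinearMap.range_eq_top.2, finrank_top, finrank_self]
          intro a
          exact ⟨a • v, by show u ⬝ᵥ (a • v) = a; rw [dotProduct_smul, h1, smul_eq_mul, mul_one]⟩
        simp only [U]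
        omega
      have hm : finrank K ↥(U.map N.mulVecLin) = finrank K U :=
        (Submodule.equivMapOfInjective _ hinj U).symm.finrank_eq
      have hS : finrank K S ≤ 2 := finrank_pair_le _ _
      have h6 := Submodule.finrank_mono hle
      obtain rfl : k = 3 := by omega
      have h7 := Submodule.eq_of_le_of_finrank_le hle (by omega)
      have h8 : v + N *ᵥ v ∈ U.map N.mulVecLin :=
        h7 ▸ Submodule.mem_sup_right (Submodule.mem_span_singleton_self _)
      obtain ⟨x, hx, hx'⟩ := h8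
      have : x = z := hinj (hx'.trans hz.symm)
      exact h3z rfl (this ▸ hx)
  rcases Nat.lt_or_ge k 3 with hk3 | hk3
  · obtain ⟨v, -, hv, hne⟩ := exists_noneigen (N := N) s [LinearMap.ker (dotL r), C] ⊥
      (by simp; omega) (by
        simp [hyperplane_ne_top hr0]
        exact ne_top_of_finrank (by omega))
      (fun u => by
        rw [sup_bot_eq]
        exact ne_top_of_finrank (lt_of_le_of_lt (finrank_span_singleton_le u) (by omega))) hns
    exact main v (hv _ (by simp)) (hv (LinearMap.ker (dotL r)) (by simp)) hne (fun h => absurd h (by omega))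
  obtain ⟨R, hR2, hR, hRne⟩ : ∃ R : Submodule K (Fin k → K), finrank K R ≤ 2 ∧
      (∀ v, v ∉ R → (∀ μ, v ∉ eigen N μ) → ∀ μ, Bad N μ → v ∉ imgSub N μ) ∧
      (R ≠ ⊥ → ∃ μ, Bad N μ) := by
    by_cases hb : ∃ μ, Bad N μ
    · obtain ⟨μ, hμ⟩ := hb
      refine ⟨imgSub N μ, hμ.small, fun v h1 h2 μ' hμ' => ?_, fun _ => ⟨μ, hμ⟩⟩
      by_cases he : μ = μ'
      · exact he ▸ h1
      · rw [(bad_two hk3 hμ hμ' he).2.1]
        exact h2 μ
    · push Not at hb
      exact ⟨⊥, by simp, fun v _ _ μ h => absurd h (hb μ), fun h => absurd rfl h⟩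
  by_cases hs4 : 4 ≤ s.card
  · obtain ⟨v, hvC, hv, hne⟩ := exists_noneigen (N := N) s [LinearMap.ker (dotL r), R] C
      (by simpa using hs4) (by
        simp [hyperplane_ne_top hr0]
        exact ne_top_of_finrank (by omega))
      (fun u => ne_top_of_finrank (lt_of_le_of_lt (le_trans (finrank_sup_le _ _)
        (add_le_add (finrank_span_singleton_le u) hC1)) (by omega))) hns
    exact main v hvC (hv (LinearMap.ker (dotL r)) (by simp)) hne
      (fun _ => hR v (hv R (by simp)) hne)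
  · obtain ⟨v, hvC, hv, hne⟩ := exists_noneigen (N := N) s [LinearMap.ker (dotL r)] (C ⊔ R)
      (by simpa using hs) (by simp [hyperplane_ne_top hr0])
      (fun u => by
        refine ne_top_of_finrank (lt_of_le_of_lt (le_trans (finrank_sup_le _ _)
          (add_le_add (finrank_span_singleton_le u) (finrank_sup_le C R))) ?_)
        by_cases hRb : R = ⊥
        · rw [hRb, finrank_bot]; omega
        · obtain ⟨μ, hμ⟩ := hRne hRb
          have := hbad3 (by omega) μ hμ
          omega) hns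
    exact main v (fun h => hvC (Submodule.mem_sup_left h)) (hv (LinearMap.ker (dotL r)) (by simp))
      hne (fun _ => hR v (fun h => hvC (Submodule.mem_sup_right h)) hne)

theorem mem_frame_aux {v u : Fin k → K} (h : u ⬝ᵥ v = 1) : ∃ i, u i ≠ 0 ∧ v i ≠ 0 := by
  by_contra hall
  push Not at hall
  have : u ⬝ᵥ v = 0 := Finset.sum_eq_zero fun i _ => by
    by_cases hu : u i = 0
    · simp [hu]
    · simp [hall i hu]
  rw [h] at this
  exact one_ne_zero this

/-- a change of basis sending the first basis vector to `v` and the first coordinate to `u` -/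
theorem exists_frame {n : ℕ} {v u : Fin (n + 1) → K} (huv : u ⬝ᵥ v = 1) :
    ∃ Q : GL (Fin (n + 1)) K, Q.1 *ᵥ vecCons 1 0 = v ∧ u ᵥ* Q.1 = vecCons 1 0 := by
  classical
  obtain ⟨i, hui, hvi⟩ := mem_frame_aux huv
  let Q : Matrix (Fin (n + 1)) (Fin (n + 1)) K := Matrix.of fun a b =>
    (vecCons v fun j => Pi.single (i.succAbove j) (1 : K) - u (i.succAbove j) • v) b a
  have hQcol : ∀ y, Q *ᵥ y = y 0 • v + ∑ j : Fin n, y j.succ •
      (Pi.single (i.succAbove j) (1 : K) - u (i.succAbove j) • v) := by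
    intro y
    funext a
    simp [Q, mulVec, dotProduct, Fin.sum_univ_succ, mul_comm]
  have hQ0 : Q *ᵥ vecCons 1 0 = v := by rw [hQcol]; simp
  have huQ : u ᵥ* Q = vecCons 1 0 := by
    funext b
    show u ⬝ᵥ (fun a => Q a b) = _
    refine Fin.cases ?_ (fun j => ?_) b
    · simpa [Q] using huv
    · simp [Q]
      rw [show (fun a => (Pi.single (i.succAbove j) (1 : K) : Fin (n + 1) → K) a - u (i.succAbove j) * v a)
        = Pi.single (i.succAbove j) (1 : K) - u (i.succAbove j) • v from rfl, dotProduct_sub,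
        dotProduct_smul, huv, dotProduct_single, mul_one, smul_eq_mul, mul_one, sub_self]
  have hQu : IsUnit Q := by
    rw [← Matrix.mulVec_injective_iff_isUnit]
    intro x x' hxx
    rw [← sub_eq_zero]
    have h0 : Q *ᵥ (x - x') = 0 := by rw [mulVec_sub, hxx, sub_self]
    generalize x - x' = y at h0
    have hy0 : y 0 = 0 := by
      have := congrArg (fun z => u ⬝ᵥ z) h0
      simp only [dotProduct_mulVec, huQ, dotProduct_zero, cons_dotProduct, one_mul,
        zero_dotProduct, add_zero] at this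
      exact this
    rw [hQcol, hy0, zero_smul, zero_add] at h0
    simp only [smul_sub, smul_smul, Finset.sum_sub_distrib, ← Finset.sum_smul, sub_eq_zero] at h0
    have hS : ∑ j, y (Fin.succ j) * u (i.succAbove j) = 0 := by
      have hi := congrFun h0 i
      rw [Finset.sum_apply, Finset.sum_eq_zero (fun j _ => ?_)] at hi
      · simpa [hvi] using hi.symm
      · simp [Fin.succAbove_ne i j]
    funext b
    refine Fin.cases hy0 (fun j => ?_) b
    have hj := congrFun h0 (i.succAbove j)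
    rw [hS, zero_smul, Finset.sum_apply, Finset.sum_eq_single j (fun l _ hl => ?_)
      (by simp)] at hj
    · simpa using hj
    · have : i.succAbove j ≠ i.succAbove l := fun h => hl (Fin.succAbove_right_injective h).symm
      simp [this]
  exact ⟨hQu.unit, hQ0, huQ⟩

/-- splitting off one row and one column -/
theorem exists_split {n : ℕ} (s : Finset K) (hs : 3 ≤ s.card) (hsk : 4 ≤ s.card ∨ 4 ≤ n + 1)
    (hn : 1 ≤ n) (hthree : s.card < 4 → ∀ x : K, x = 0 ∨ x = 1 ∨ x = -1)
    (M : Matrix (Fin (n + 1)) (Fin (n + 1)) K) (hdet : M.det = 1)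
    (hrank : 2 ≤ finrank K (img (M - 1))) (hns : ∀ a : K, M ≠ a • 1)
    (c r : Fin (n + 1) → K) (hc : c ≠ 0) (hr : r ≠ 0) :
    ∃ (P : GL (Fin (n + 1)) K) (c' r' : Fin n → K) (X' : Matrix (Fin n) (Fin n) K),
      P.1 * M * P⁻¹.1 = bord 1 r' c' X' ∧ c' ≠ 0 ∧ r' ≠ 0 ∧ (P.1 *ᵥ c) 0 ≠ 0 ∧
      (r ᵥ* P⁻¹.1) 0 ≠ 0 ∧ (X' - vecMulVec c' r').det = 1 ∧
      (2 ≤ n → 2 ≤ finrank K (img (X' - vecMulVec c' r' - 1)) ∧
        ∀ a : K, X' - vecMulVec c' r' ≠ a • 1) := by
  classical
  obtain ⟨N, hNdef⟩ : ∃ N, N = M - 1 := ⟨_, rfl⟩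
  have hNx : ∀ x, N *ᵥ x = M *ᵥ x - x := fun x => by rw [hNdef, sub_mulVec, one_mulVec]
  rw [← hNdef] at hrank
  have hbad3 : s.card < 4 → ∀ μ, Bad N μ → n + 1 ≠ 4 := by
    intro h3 μ hμ h4
    obtain rfl : n = 3 := by omega
    have := hμ.pow
    rcases hthree h3 (μ + 1) with h | h | h
    · simp [h] at this
    · exact hμ.ne (by linear_combination h)
    · rw [h] at this
      exact hμ.ne (by norm_num at this; linear_combination h + this)
  have heig : ∀ μ, eigen N μ ≠ ⊤ := by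
    intro μ h
    refine hns (μ + 1) (ext_of_mulVec_single fun i => ?_)
    have h1 : N *ᵥ Pi.single i 1 = μ • Pi.single i 1 := mem_eigen.1 (h ▸ Submodule.mem_top)
    rw [hNx, sub_eq_iff_eq_add] at h1
    rw [h1, smul_mulVec, one_mulVec, add_smul, one_smul]
  obtain ⟨v, u, hG⟩ : ∃ v u, Good N c r v u := by
    by_cases hN : N.det = 0
    · refine choose_singular s hs hsk ?_ hbad3 hc hr hrank fun h => ?_
      · by_contra hlt
        obtain rfl : n = 1 := by omega
        obtain ⟨x, hx, hx'⟩ := Matrix.exists_mulVec_eq_zero_iff.2 hN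
        have h1 := LinearMap.finrank_range_add_finrank_ker N.mulVecLin
        have h2 : finrank K (LinearMap.ker N.mulVecLin) ≠ 0 := by
          intro h0
          rw [Submodule.finrank_eq_zero, Submodule.eq_bot_iff] at h0
          exact hx (h0 x hx')
        rw [finrank_fin_fun] at h1
        simp only [img] at hrank
        omega
      · obtain ⟨x, hx, hx'⟩ := Matrix.exists_mulVec_eq_zero_iff.2 hN
        exact hx ((Submodule.eq_bot_iff _).1 h x hx')
    · exact choose_invertible s hs (by omega) hsk hbad3 hc hr hN (by simp [hNdef, hdet]) heig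
  obtain ⟨Qu, hQ0', huQ'⟩ := exists_frame hG.uv
  obtain ⟨Q, hQdef⟩ : ∃ Q, Q = Qu.1 := ⟨_, rfl⟩
  have hQ0 : Q *ᵥ vecCons 1 0 = v := hQdef ▸ hQ0'
  have huQ : u ᵥ* Q = vecCons 1 0 := hQdef ▸ huQ'
  let P : GL (Fin (n + 1)) K := Qu⁻¹
  have hPi : P⁻¹.1 = Q := by simp [P, hQdef]
  have hPQ : P.1 * Q = 1 := by rw [← hPi, Units.mul_inv]
  have hQP : Q * P.1 = 1 := by rw [← hPi, Units.inv_mul]
  have hP0 : ∀ x, (P.1 *ᵥ x) 0 = u ⬝ᵥ x := by
    intro x
    conv_rhs => rw [← one_mulVec x, ← hQP, ← mulVec_mulVec, dotProduct_mulVec, huQ]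
    simp [cons_dotProduct]
    rfl
  let M1 := P.1 * M * P⁻¹.1
  let c' : Fin n → K := fun j => M1 j.succ 0
  let r' : Fin n → K := fun j => M1 0 j.succ
  let X' : Matrix (Fin n) (Fin n) K := fun a b => M1 a.succ b.succ
  have hMv : M *ᵥ v = v + N *ᵥ v := by rw [hNx, add_sub_cancel]
  have hM1x : ∀ y, Q *ᵥ (M1 *ᵥ y) = M *ᵥ (Q *ᵥ y) := by
    intro y
    simp only [M1, hPi, mulVec_mulVec]
    rw [← mul_assoc, ← mul_assoc, hQP, one_mul]
  have h00 : M1 0 0 = 1 := by
    have h1 : M1 0 0 = (M1 *ᵥ vecCons 1 0) 0 := by simp [mulVec, dotProduct, Fin.sum_univ_succ]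
    rw [h1]
    simp only [M1, ← mulVec_mulVec, hPi, hQ0]
    rw [hP0, hMv, dotProduct_add, hG.uv, hG.uNv, add_zero]
  have hM1 : M1 = bord 1 r' c' X' := by
    ext a b
    refine Fin.cases ?_ (fun a => ?_) a <;> refine Fin.cases ?_ (fun b => ?_) b <;>
      simp [bord, h00, r', c', X']
  have hr'x : ∀ w : Fin n → K, r' ⬝ᵥ w = u ⬝ᵥ (N *ᵥ (Q *ᵥ vecCons 0 w)) := by
    intro w
    have hux : u ⬝ᵥ (Q *ᵥ vecCons 0 w) = 0 := by
      rw [dotProduct_mulVec, huQ]; simp [cons_dotProduct]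
    have h1 : r' ⬝ᵥ w = (M1 *ᵥ vecCons 0 w) 0 := by rw [hM1, bord_mulVec]; simp
    rw [h1, ← sub_zero (u ⬝ᵥ _)]
    simp only [M1, ← mulVec_mulVec, hPi]
    rw [hP0, sub_zero, hNx, dotProduct_sub, hux, sub_zero]
  have key : ∀ (a : K) (w : Fin n → K), Q *ᵥ vecCons 0 ((X' - vecMulVec c' r' - a • 1) *ᵥ w) =
      M *ᵥ (Q *ᵥ vecCons 0 w) - (u ⬝ᵥ (N *ᵥ (Q *ᵥ vecCons 0 w))) • (v + N *ᵥ v) -
        a • (Q *ᵥ vecCons 0 w) := by
    intro a w
    have e : M1 *ᵥ vecCons 0 w - (r' ⬝ᵥ w) • (M1 *ᵥ vecCons 1 0) - a • vecCons 0 w =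
        vecCons 0 ((X' - vecMulVec c' r' - a • 1) *ᵥ w) := by
      rw [hM1, bord_mulVec, bord_mulVec]
      funext b
      refine Fin.cases ?_ (fun b => ?_) b
      · simp
      · simp [sub_mulVec, smul_mulVec, vecMulVec_mulVec, mul_comm]
    rw [← hM1x, ← hr'x, ← hMv, ← hQ0, ← hM1x, ← e, mulVec_sub, mulVec_sub, mulVec_smul, mulVec_smul]
  refine ⟨P, c', r', X', hM1, ?_, ?_, ?_, ?_, ?_, fun hn2 => ⟨?_, fun a ha => ?_⟩⟩
  · intro h
    refine hG.Nv ?_
    have h1 := hM1x (vecCons 1 0)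
    rw [hQ0, hM1, bord_mulVec, h] at h1
    simp at h1
    rw [show (vecCons 1 0 : Fin (n + 1) → K) = vecCons 1 0 from rfl] at h1
    rw [hQ0, hMv] at h1
    simpa using h1
  · intro h
    obtain ⟨x, hx⟩ := hG.uN
    refine hx ?_
    have h1 : ∀ z, u ⬝ᵥ (M *ᵥ (Q *ᵥ z)) = u ⬝ᵥ (Q *ᵥ z) := by
      intro z
      rw [← hM1x, dotProduct_mulVec u Q, huQ, dotProduct_mulVec u Q, huQ]
      conv_lhs => rw [← cons_head_tail z, hM1, bord_mulVec, h]
      simp [cons_dotProduct]
    have h2 := h1 (P.1 *ᵥ x)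
    rw [mulVec_mulVec x Q, hQP, one_mulVec] at h2
    rw [hNx, dotProduct_sub, h2, sub_self]
  · rw [hP0]; exact hG.uc
  · show (r ᵥ* P⁻¹.1) 0 ≠ 0
    rw [hPi]
    have : (r ᵥ* Q) 0 = r ⬝ᵥ v := by
      rw [← hQ0, dotProduct_mulVec]; simp [dotProduct, Fin.sum_univ_succ]
    rw [this]; exact hG.rv
  · have h1 : bord 1 r' c' X' = bord 1 0 c' 1 * bord 1 r' 0 (X' - vecMulVec c' r') := by
      rw [bord_mul]; simp
    have h2 := congrArg Matrix.det hM1
    rw [det_units_conj, hdet, h1, det_mul, det_bord_lower, det_one, ← det_transpose (bord 1 r' 0 _),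
      bord_transpose, det_bord_lower, det_transpose] at h2
    simpa using h2.symm
  · by_contra hlt
    obtain ⟨y, hy⟩ := (Submodule.finrank_le_one_iff_isPrincipal _).1
      (show finrank K (img (X' - vecMulVec c' r' - 1)) ≤ 1 by omega)
    obtain ⟨x, hx, hx'⟩ := hG.rank (by omega) (Q *ᵥ vecCons 0 y)
    have hx0 : (P.1 *ᵥ x) 0 = 0 := by rw [hP0, hx]
    let w := vecTail (P.1 *ᵥ x)
    have hxw : Q *ᵥ vecCons 0 w = x := by
      rw [← hx0]
      show Q *ᵥ vecCons (vecHead (P.1 *ᵥ x)) (vecTail (P.1 *ᵥ x)) = x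
      rw [cons_head_tail, mulVec_mulVec, hQP, one_mulVec]
    obtain ⟨t, ht⟩ := Submodule.mem_span_singleton.1
      (hy ▸ ⟨w, rfl⟩ : (X' - vecMulVec c' r' - 1) *ᵥ w ∈ Submodule.span K {y})
    have h1 := key 1 w
    rw [one_smul, one_smul, ← ht, hxw,
      show vecCons (0 : K) (t • y) = t • vecCons (0 : K) y by simp, mulVec_smul] at h1
    refine hx' (Submodule.mem_span_singleton.2 ⟨t, ?_⟩)
    rw [h1, hNx]
    abel
  · -- not scalar
    have hd : (a - 1 + 1) ^ (n + 1 - 1) = 1 := by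
      have h1 := congrArg Matrix.det hM1
      have h2 : (X' - vecMulVec c' r').det = 1 := by
        have e : bord 1 r' c' X' = bord 1 0 c' 1 * bord 1 r' 0 (X' - vecMulVec c' r') := by
          rw [bord_mul]; simp
        rw [det_units_conj, hdet, e, det_mul, det_bord_lower, det_one, ← det_transpose (bord 1 r' 0 _),
          bord_transpose, det_bord_lower, det_transpose] at h1
        simpa using h1.symm
      rw [ha, det_smul, det_one, mul_one, Fintype.card_fin] at h2
      simpa using h2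
    have hker : ∀ x, u ⬝ᵥ x = 0 →
        N *ᵥ x - (a - 1) • x = (u ⬝ᵥ (N *ᵥ x)) • (v + N *ᵥ v) := by
      intro x hx
      have hx0 : (P.1 *ᵥ x) 0 = 0 := by rw [hP0, hx]
      let w := vecTail (P.1 *ᵥ x)
      have hxw : Q *ᵥ vecCons 0 w = x := by
        rw [← hx0]
        show Q *ᵥ vecCons (vecHead (P.1 *ᵥ x)) (vecTail (P.1 *ᵥ x)) = x
        rw [cons_head_tail, mulVec_mulVec, hQP, one_mulVec]
      have h1 := key a w
      rw [ha, sub_self, zero_mulVec, hxw] at h1
      simp only [cons_zero_zero, mulVec_zero] at h1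
      rw [← sub_eq_zero, h1, hNx, sub_smul, one_smul]
      abel
    have hne : a - 1 ≠ 0 := by
      intro h0
      obtain ⟨x, hx, hx'⟩ := hG.rank (by omega) 0
      refine hx' ?_
      have := hker x hx
      rw [h0, zero_smul, sub_zero] at this
      rw [← this, sub_self]
      exact Submodule.zero_mem _
    have hsmall : finrank K (imgSub N (a - 1)) ≤ 2 := by
      refine le_trans (Submodule.finrank_mono ?_) (finrank_pair_le v (N *ᵥ v))
      rintro _ ⟨x, rfl⟩
      have hS : ∀ p q : K, p • v + q • (N *ᵥ v) ∈ Submodule.span K {v} ⊔ Submodule.span K {N *ᵥ v} :=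
        fun p q => Submodule.add_mem_sup (Submodule.smul_mem _ _ (Submodule.mem_span_singleton_self _))
          (Submodule.smul_mem _ _ (Submodule.mem_span_singleton_self _))
      show (N - (a - 1) • 1) *ᵥ x ∈ _
      have h1 := hker (x - (u ⬝ᵥ x) • v) (by
        rw [dotProduct_sub, dotProduct_smul, hG.uv, smul_eq_mul, mul_one, sub_self])
      generalize u ⬝ᵥ (N *ᵥ (x - (u ⬝ᵥ x) • v)) = e at h1
      rw [mulVec_sub, mulVec_smul] at h1
      rw [sub_mulVec, smul_mulVec, one_mulVec]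
      convert hS (e - (u ⬝ᵥ x) * (a - 1)) (e + u ⬝ᵥ x) using 1
      linear_combination (norm := module) h1
    have hv := hG.bad (by omega) (a - 1) ⟨hne, hd, hsmall⟩
    obtain ⟨x₀, hx₀⟩ := hG.uN
    let x := x₀ - (u ⬝ᵥ x₀) • v
    have hux : u ⬝ᵥ x = 0 := by
      simp only [x]; rw [dotProduct_sub, dotProduct_smul, hG.uv, smul_eq_mul, mul_one, sub_self]
    have huNx : u ⬝ᵥ (N *ᵥ x) = u ⬝ᵥ (N *ᵥ x₀) := by
      simp only [x]
      rw [mulVec_sub, mulVec_smul, dotProduct_sub, dotProduct_smul, hG.uNv, smul_zero, sub_zero]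
    generalize he : u ⬝ᵥ (N *ᵥ x) = e at huNx
    have h1 := hker x hux
    rw [he] at h1
    refine hv ⟨(e * a)⁻¹ • (x - e • v), ?_⟩
    have he0 : e ≠ 0 := huNx ▸ hx₀
    have ha0 : a ≠ 0 := fun h => by
      rw [h] at hd
      simp [Nat.one_le_iff_ne_zero.1 hn] at hd
    show (N - (a - 1) • 1) *ᵥ ((e * a)⁻¹ • (x - e • v)) = v
    rw [mulVec_smul, sub_mulVec, smul_mulVec, one_mulVec, mulVec_sub, mulVec_smul]
    have h2 : N *ᵥ x - e • N *ᵥ v - (a - 1) • (x - e • v) = (e * a) • v := by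
      linear_combination (norm := module) h1
    rw [h2, smul_smul, inv_mul_cancel₀ (mul_ne_zero he0 ha0), one_smul]

end Cfsg.Agent.SLComm
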