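/-
Factorizations of non-scalar matrices of determinant one over fields with at least four elements.
-/
import Cfsg.Agent.Lib.Classical.Commutator.Choose

set_option autoImplicit false

namespace Cfsg.Agent.SLComm

open Polynomial Matrix Module

variable {K : Type*} [Field K]

theorem mem_conj {n : ℕ} {M M' : Matrix (Fin n) (Fin n) K} {P : GL (Fin n) K}
    (h : P.1 * M * P⁻¹.1 = M') : (P⁻¹).1 * M' * (P⁻¹)⁻¹.1 = M := by
  rw [← h, inv_inv, mul_assoc, mul_assoc, mul_assoc, Units.inv_mul, mul_one, ← mul_assoc,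
    Units.inv_mul, one_mul]

/-- a regular unipotent factorization -/
theorem fac_regular (s : Finset K) (hs : 4 ≤ s.card) : ∀ (n : ℕ)
    (M : Matrix (Fin (n + 1)) (Fin (n + 1)) K), M.det = 1 →
    (1 ≤ n → 2 ≤ finrank K (img (M - 1)) ∧ ∀ a : K, M ≠ a • 1) →
    ∀ c r : Fin (n + 1) → K, c ≠ 0 → r ≠ 0 →
    Fac ((X - C 1) ^ (n + 1)) (fun p => p.eval 1 ^ (n + 1)) M c r := by
  intro n
  induction n with
  | zero =>
    intro M hdet _ c r hc hr
    have hM : M = 1 := by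
      ext i j
      rw [det_fin_one] at hdet
      fin_cases i; fin_cases j
      simpa using hdet
    subst hM
    simpa using fac_one c r hc hr
  | succ n ih =>
    intro M hdet h c r hc hr
    obtain ⟨hrank, hns⟩ := h (Nat.le_add_left 1 n)
    obtain ⟨P, c', r', X', hM, hc', hr', hPc, hrP, hdet', hnext⟩ := exists_split s (by omega)
      (Or.inl hs) (Nat.le_add_left 1 n) (fun h3 => absurd h3 (by omega)) M hdet hrank hns c r hc hr
    have h1 := (ih _ hdet' (fun hn => hnext (by omega)) c' r' hc' hr').step _ _ hPc hrP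
    have h2 := h1.conj P⁻¹
    rw [mem_conj hM, gl_inv_mulVec, inv_inv, vecMul_vecMul, ← Units.val_mul, inv_mul_cancel,
      Units.val_one, vecMul_one] at h2
    simp only [pow_succ'] at h2 ⊢
    exact h2

theorem exists_vecMulVec {n : ℕ} {N : Matrix (Fin n) (Fin n) K} (h : finrank K (img N) ≤ 1) :
    ∃ a b : Fin n → K, N = vecMulVec a b := by
  obtain ⟨a, ha⟩ := (Submodule.finrank_le_one_iff_isPrincipal _).1 h
  have h1 : ∀ j, ∃ t : K, t • a = N *ᵥ Pi.single j 1 := fun j =>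
    Submodule.mem_span_singleton.1 (ha ▸ ⟨_, rfl⟩)
  choose b hb using h1
  refine ⟨a, b, ext_of_mulVec_single fun j => ?_⟩
  rw [← hb j, vecMulVec_mulVec, dotProduct_single, mul_one, op_smul_eq_smul]

theorem dot_eq_zero_of_det {n : ℕ} {a b : Fin n → K} (h : (1 + vecMulVec a b).det = 1) :
    b ⬝ᵥ a = 0 := by
  rw [vecMulVec_eq Unit, det_one_add_replicateCol_mul_replicateRow] at h
  linear_combination h

theorem exists_dot_eq_one {n : ℕ} {a : Fin n → K} (ha : a ≠ 0) : ∃ u : Fin n → K, u ⬝ᵥ a = 1 := by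
  obtain ⟨i, hi⟩ := Function.ne_iff.1 ha
  exact ⟨Pi.single i (a i)⁻¹, by rw [single_dotProduct]; exact inv_mul_cancel₀ hi⟩

/-- all transvections are conjugate -/
theorem transvection_normal {n : ℕ} {a b : Fin (n + 2) → K} (ha : a ≠ 0) (hb : b ≠ 0)
    (hab : b ⬝ᵥ a = 0) : ∃ P : GL (Fin (n + 2)) K, P.1 * (1 + vecMulVec a b) * P⁻¹.1 =
      1 + vecMulVec (vecCons 0 (vecCons 1 0)) (vecCons 1 0) := by
  obtain ⟨v, hv⟩ := exists_dot_eq_one hb
  rw [dotProduct_comm] at hv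
  obtain ⟨Q, hQ0, hbQ⟩ := exists_frame hv
  obtain ⟨a₁, ha₁⟩ : ∃ a₁ : Fin (n + 1) → K, Q.1 *ᵥ vecCons 0 a₁ = a := by
    refine ⟨vecTail (Q⁻¹.1 *ᵥ a), ?_⟩
    have h0 : (Q⁻¹.1 *ᵥ a) 0 = 0 := by
      have : b ⬝ᵥ (Q.1 *ᵥ (Q⁻¹.1 *ᵥ a)) = 0 := by
        rw [mulVec_mulVec, Units.mul_inv, one_mulVec, hab]
      rw [dotProduct_mulVec, hbQ] at this
      simpa [cons_dotProduct, vecHead] using this
    rw [← h0]
    show Q.1 *ᵥ vecCons (vecHead (Q⁻¹.1 *ᵥ a)) (vecTail (Q⁻¹.1 *ᵥ a)) = a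
    rw [cons_head_tail, mulVec_mulVec, Units.mul_inv, one_mulVec]
  have ha₁0 : a₁ ≠ 0 := fun h => ha (by rw [← ha₁, h]; simp)
  obtain ⟨u₁, hu₁⟩ := exists_dot_eq_one ha₁0
  obtain ⟨Q₁, hQ₁, -⟩ := exists_frame hu₁
  let R : GL (Fin (n + 2)) K := ⟨bord 1 0 0 Q₁.1, bord 1 0 0 Q₁⁻¹.1,
    by rw [bord_mul, bord_one]; simp, by rw [bord_mul, bord_one]; simp⟩
  refine ⟨(Q * R)⁻¹, ?_⟩
  have e1 : ((Q * R)⁻¹).1 *ᵥ a = vecCons 0 (vecCons 1 0) := by
    refine gl_mulVec_inj (Q * R) ?_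
    rw [mulVec_mulVec, Units.mul_inv, one_mulVec, Units.val_mul, ← mulVec_mulVec]
    show a = Q.1 *ᵥ (bord 1 0 0 Q₁.1 *ᵥ _)
    rw [bord_mulVec, hQ₁]
    simp [ha₁]
  have e2 : b ᵥ* (Q * R).1 = vecCons 1 0 := by
    rw [Units.val_mul, ← vecMul_vecMul, hbQ]
    show vecCons 1 0 ᵥ* bord 1 0 0 Q₁.1 = _
    rw [← mulVec_transpose, bord_transpose, bord_mulVec]
    simp
  rw [inv_inv, mul_add, add_mul, mul_one, Units.inv_mul, mul_vecMulVec, vecMulVec_mul, e1, e2]

theorem transvection_similar {n : ℕ} {a b a' b' : Fin (n + 2) → K} (ha : a ≠ 0) (hb : b ≠ 0)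
    (hab : b ⬝ᵥ a = 0) (ha' : a' ≠ 0) (hb' : b' ≠ 0) (hab' : b' ⬝ᵥ a' = 0) :
    ∃ P : GL (Fin (n + 2)) K, P.1 * (1 + vecMulVec a b) * P⁻¹.1 = 1 + vecMulVec a' b' := by
  obtain ⟨P, hP⟩ := transvection_normal ha hb hab
  obtain ⟨P', hP'⟩ := transvection_normal ha' hb' hab'
  refine ⟨P'⁻¹ * P, ?_⟩
  have h1 := mem_conj hP'
  rw [← hP, inv_inv] at h1
  rw [_root_.mul_inv_rev, inv_inv, Units.val_mul, Units.val_mul]
  simpa only [mul_assoc] using h1

/-- the matrix with entries `d (i + 1)` above the diagonal -/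
def shift (n : ℕ) (d : ℕ → K) : Matrix (Fin n) (Fin n) K :=
  Matrix.of fun i j => if j.val = i.val + 1 then d j.val else 0

theorem shift_pow (n : ℕ) (d : ℕ → K) : ∀ (k : ℕ) (i j : Fin n), (shift n d ^ k) i j =
    if j.val = i.val + k then ∏ l ∈ Finset.range k, d (i.val + l + 1) else 0
  | 0, i, j => by simp [Matrix.one_apply, Fin.ext_iff, eq_comm]
  | k + 1, i, j => by
    rw [pow_succ, Matrix.mul_apply]
    by_cases h : j.val = i.val + (k + 1)
    · rw [Finset.sum_eq_single (⟨i.val + k, by omega⟩ : Fin n), if_pos h, shift_pow n d k i _,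
        if_pos rfl, Finset.prod_range_succ]
      · simp [shift, h, add_assoc]
      · intro l _ hl
        rw [shift_pow n d k i l, if_neg (fun e => hl (Fin.ext e)), zero_mul]
      · simp
    · rw [if_neg h, Finset.sum_eq_zero]
      intro l _
      rw [shift_pow n d k i l]
      by_cases hl : l.val = i.val + k
      · simp [shift, hl, show ¬ j.val = i.val + k + 1 by omega]
      · rw [if_neg hl, zero_mul]

theorem cyc_shift {n : ℕ} (hn : 1 ≤ n) (d : ℕ → K) (hd : ∀ i, d i ≠ 0) :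
    ∃ w, Cyc ((X - C 1) ^ n) (1 + shift n d) w := by
  refine ⟨Pi.single (⟨n - 1, by omega⟩ : Fin n) 1, cyc_unipotent ?_ ?_⟩
  · rw [add_sub_cancel_left]
    ext i j
    rw [shift_pow, if_neg (by omega)]
    rfl
  · rw [add_sub_cancel_left, mulVec_single_one]
    refine Function.ne_iff.2 ⟨⟨0, by omega⟩, ?_⟩
    show (shift n d ^ (n - 1)) ⟨0, by omega⟩ ⟨n - 1, by omega⟩ ≠ (0 : K)
    rw [shift_pow, if_pos (by simp)]
    exact Finset.prod_ne_zero_iff.2 fun l _ => hd _

theorem similar_conj {n : ℕ} {f : K[X]} {A B : Matrix (Fin n) (Fin n) K} {w v : Fin n → K}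
    (hA : Cyc f A w) (hB : Cyc f B v) : ∃ x : GL (Fin n) K, B = x.1 * A * x⁻¹.1 := by
  obtain ⟨Q, hQ⟩ := hA.similar hB
  exact ⟨Q, by rw [hQ, mul_assoc, Units.mul_inv, mul_one]⟩

/-- a non-scalar matrix of determinant one is a product of two regular unipotent matrices -/
theorem exists_unipotent_factors {n : ℕ} (s : Finset K) (hs : 4 ≤ s.card) (hn : 2 ≤ n)
    (M : Matrix (Fin (n + 1)) (Fin (n + 1)) K) (hdet : M.det = 1) (hns : ∀ a : K, M ≠ a • 1) :
    ∃ A B w v, M = A * B ∧ Cyc ((X - C 1) ^ (n + 1)) A w ∧ Cyc ((X - C 1) ^ (n + 1)) B v := by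
  classical
  by_cases hr : 2 ≤ finrank K (img (M - 1))
  · have hne : (Pi.single 0 1 : Fin (n + 1) → K) ≠ 0 := by simp
    obtain ⟨A, C', w, v, h1, h2, h3, -⟩ :=
      (fac_regular s hs n M hdet (fun _ => ⟨hr, hns⟩) _ _ hne hne).pair
    obtain ⟨u, hu⟩ := h3.transpose
    rw [transpose_transpose] at hu
    have hA := (nilpotent_of_cyc h2 (by omega)).1
    have hCd : C'.det ≠ 0 := by
      intro h0
      have h4 : A.det = 0 := by rw [← h1, det_mul, h0, mul_zero]
      obtain ⟨x, hx, hx'⟩ := Matrix.exists_mulVec_eq_zero_iff.2 h4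
      have h5 : (A - 1) *ᵥ x = (-1 : K) • x := by rw [sub_mulVec, hx', one_mulVec]; simp
      have h6 : ∀ k : ℕ, (A - 1) ^ k *ᵥ x = (-1 : K) ^ k • x := by
        intro k
        induction k with
        | zero => simp
        | succ k ihk => rw [pow_succ, ← mulVec_mulVec, h5, mulVec_smul, ihk, smul_smul, pow_succ']
      have h7 := h6 (n + 1)
      rw [hA, zero_mulVec] at h7
      exact hx ((smul_eq_zero.1 h7.symm).resolve_left (pow_ne_zero _ (by norm_num)))
    obtain ⟨v', hv'⟩ := cyc_unipotent_inv (by omega) hu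
      (mul_nonsing_inv C' (isUnit_iff_ne_zero.2 hCd))
    exact ⟨A, C'⁻¹, w, v', by rw [← h1, mul_assoc, mul_nonsing_inv C' (isUnit_iff_ne_zero.2 hCd),
      mul_one], h2, hv'⟩
  · obtain ⟨a, b, hab⟩ := exists_vecMulVec (show finrank K (img (M - 1)) ≤ 1 by omega)
    rw [sub_eq_iff_eq_add'] at hab
    have ha : a ≠ 0 := fun h => hns 1 (by rw [hab, h]; simp)
    have hb : b ≠ 0 := fun h => hns 1 (by rw [hab, h]; simp)
    have hba := dot_eq_zero_of_det (hab ▸ hdet)
    obtain ⟨m, rfl⟩ : ∃ m, n = m + 1 := ⟨n - 1, by omega⟩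
    obtain ⟨t, -, ht⟩ : ∃ t ∈ s, t ∉ ({0, -1} : Finset K) := by
      by_contra hall
      push Not at hall
      have := le_trans (Finset.card_le_card (fun x hx => hall x hx : s ⊆ ({0, -1} : Finset K)))
        Finset.card_le_two
      omega
    simp only [Finset.mem_insert, Finset.mem_singleton, not_or] at ht
    let a' : Fin (m + 2) → K := Pi.single 0 t
    let b' : Fin (m + 2) → K := Pi.single 1 1
    obtain ⟨P, hP⟩ := transvection_similar (a' := a') (b' := b') ha hb hba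
      (by simp [a', ht.1]) (by simp [b']) (by simp [a', b'])
    let J₀ : Matrix (Fin (m + 2)) (Fin (m + 2)) K := 1 + shift (m + 2) fun _ => 1
    obtain ⟨w₀, hw₀⟩ := cyc_shift (K := K) (n := m + 2) (by omega) (fun _ => 1) (fun _ => one_ne_zero)
    obtain ⟨w₁, hw₁⟩ := cyc_shift (K := K) (n := m + 2) (by omega)
      (fun i => if i = 1 then 1 + t else 1) (fun i => by
        split
        · exact fun h => ht.2 (by linear_combination h)
        · exact one_ne_zero)
    have hJa : J₀ *ᵥ a' = a' := by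
      funext i
      simp [J₀, a', add_mulVec, shift, Pi.single_apply, Matrix.one_apply]
    have hU : J₀ * (1 + vecMulVec a' b') = 1 + shift (m + 2) fun i => if i = 1 then 1 + t else 1 := by
      rw [mul_add, mul_one, mul_vecMulVec, hJa]
      ext i j
      simp only [J₀, shift, Matrix.add_apply, Matrix.of_apply, vecMulVec_apply, a', b',
        Pi.single_apply, Fin.ext_iff, Fin.val_zero, Fin.val_one]
      split_ifs with h1 h2 <;> first | (exfalso; omega) | ring
    have hJd : IsUnit J₀.det := by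
      refine isUnit_iff_ne_zero.2 ?_
      have hup : J₀.BlockTriangular id := by
        intro i j hij
        have : j.val < i.val := hij
        have h1 : i ≠ j := fun h => by rw [h] at this; omega
        have h2 : ¬ j.val = i.val + 1 := by omega
        simp [J₀, shift, Matrix.one_apply, h1, h2]
      rw [det_of_upperTriangular hup]
      simp [J₀, shift]
    obtain ⟨v₀, hv₀⟩ := cyc_unipotent_inv (by omega) hw₀ (mul_nonsing_inv J₀ hJd)
    refine ⟨(P⁻¹).1 * J₀⁻¹ * (P⁻¹)⁻¹.1,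
      (P⁻¹).1 * (J₀ * (1 + vecMulVec a' b')) * (P⁻¹)⁻¹.1, _, _, ?_, hv₀.conj _, (hU ▸ hw₁).conj _⟩
    rw [conj_mul_conj, ← mul_assoc J₀⁻¹, nonsing_inv_mul J₀ hJd, one_mul, hab]
    exact (mem_conj hP).symm

end Cfsg.Agent.SLComm
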