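/-
Closure properties of commutators of determinant one; transvections and scalar matrices.
-/
import Cfsg.Agent.Lib.Classical.Commutator.Factor

set_option autoImplicit false

namespace Cfsg.Agent.SLComm

open Matrix Module

variable {K : Type*} [Field K] {ι κ : Type*} [Fintype ι] [DecidableEq ι] [Fintype κ] [DecidableEq κ]

theorem IsComm.one : IsComm (1 : Matrix ι ι K) := ⟨1, 1, det_one, det_one, by simp⟩

theorem IsComm.reindex {g : Matrix ι ι K} (h : IsComm g) (e : κ ≃ ι) :
    IsComm (g.submatrix e e) := by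
  obtain ⟨a, b, ha, hb, hab⟩ := h
  refine ⟨a.submatrix e e, b.submatrix e e, by rw [det_submatrix_equiv_self, ha],
    by rw [det_submatrix_equiv_self, hb], ?_⟩
  simp only [submatrix_mul_equiv, hab]

theorem IsComm.fromBlocks {A : Matrix ι ι K} {D : Matrix κ κ K} (hA : IsComm A) (hD : IsComm D) :
    IsComm (Matrix.fromBlocks A 0 0 D) := by
  obtain ⟨a, b, ha, hb, hab⟩ := hA
  obtain ⟨a', b', ha', hb', hab'⟩ := hD
  refine ⟨Matrix.fromBlocks a 0 0 a', Matrix.fromBlocks b 0 0 b',
    by rw [det_fromBlocks_zero₂₁, ha, ha', one_mul], by rw [det_fromBlocks_zero₂₁, hb, hb', one_mul], ?_⟩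
  simp only [fromBlocks_multiply]
  simp [hab, hab']

theorem IsComm.conj {g : Matrix ι ι K} (h : IsComm g) (P : (Matrix ι ι K)ˣ) :
    IsComm (P.1 * g * P⁻¹.1) := by
  obtain ⟨a, b, ha, hb, hab⟩ := h
  refine ⟨P.1 * a * P⁻¹.1, P.1 * b * P⁻¹.1, by rw [det_units_conj, ha], by rw [det_units_conj, hb], ?_⟩
  have e : ∀ x y : Matrix ι ι K, (P.1 * x * P⁻¹.1) * (P.1 * y * P⁻¹.1) = P.1 * (x * y) * P⁻¹.1 := by
    intro x y
    simp only [mul_assoc, Units.inv_mul_cancel_left]
  rw [e, e, e, hab]

theorem IsComm.of_conj {g : Matrix ι ι K} (P : (Matrix ι ι K)ˣ) (h : IsComm (P.1 * g * P⁻¹.1)) :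
    IsComm g := by
  have := h.conj P⁻¹
  rwa [inv_inv, mul_assoc, mul_assoc, mul_assoc, Units.inv_mul, mul_one, ← mul_assoc, Units.inv_mul,
    one_mul] at this

theorem IsComm.special {g : Matrix.SpecialLinearGroup ι K} (h : IsComm g.1) :
    ∃ a b : Matrix.SpecialLinearGroup ι K, g = a * b * a⁻¹ * b⁻¹ := by
  obtain ⟨a, b, ha, hb, hab⟩ := h
  obtain ⟨A, rfl⟩ : ∃ A : Matrix.SpecialLinearGroup ι K, A.1 = a := ⟨⟨a, ha⟩, rfl⟩
  obtain ⟨B, rfl⟩ : ∃ B : Matrix.SpecialLinearGroup ι K, B.1 = b := ⟨⟨b, hb⟩, rfl⟩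
  have h1 : g * (B * A) = A * B := Subtype.ext hab
  refine ⟨A, B, ?_⟩
  rw [← h1]
  group

/-- a transvection in dimension at least three is a commutator -/
theorem isComm_transvection {n : ℕ} (hn : 3 ≤ n) {a b : Fin n → K} (hba : b ⬝ᵥ a = 0) :
    IsComm (1 + vecMulVec a b) := by
  obtain ⟨z, hz, hz'⟩ : ∃ z ∈ LinearMap.ker (dotL b), z ∉ Submodule.span K {a} := by
    by_contra hall
    push Not at hall
    have h1 := Submodule.finrank_mono (R := K) (show LinearMap.ker (dotL b) ≤ _ from hall)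
    have h2 := LinearMap.finrank_range_add_finrank_ker (dotL b)
    have h3 : finrank K (LinearMap.range (dotL b)) ≤ 1 := le_trans (Submodule.finrank_le _) (by simp)
    have h4 := finrank_span_singleton_le (K := K) a
    rw [finrank_fin_fun] at h2
    omega
  obtain ⟨d, hd, hd'⟩ := exists_functional hz'
  let w := (d ⬝ᵥ z)⁻¹ • d
  have hwz : w ⬝ᵥ z = 1 := by simp [w, inv_mul_cancel₀ hd']
  have hwa : w ⬝ᵥ a = 0 := by simp [w, hd a (Submodule.mem_span_singleton_self a)]
  have hbz : b ⬝ᵥ z = 0 := hz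
  have hdet : ∀ x y : Fin n → K, y ⬝ᵥ x = 0 → (1 + vecMulVec x y).det = 1 := by
    intro x y h
    rw [vecMulVec_eq Unit, det_one_add_replicateCol_mul_replicateRow, h, add_zero]
  refine ⟨1 + vecMulVec a w, 1 + vecMulVec z b, hdet _ _ hwa, hdet _ _ hbz, ?_⟩
  simp only [add_mul, mul_add, one_mul, mul_one, vecMulVec_mul_vecMulVec, hwz, hbz, hba,
    zero_smul, one_smul, vecMulVec_zero, zero_vecMulVec, add_zero, mul_zero]
  abel

/-- the blocks of a constant block diagonal commutator -/
theorem IsComm.blockDiagonal {g : Matrix ι ι K} (h : IsComm g) :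
    IsComm (Matrix.blockDiagonal fun _ : κ => g) := by
  obtain ⟨a, b, ha, hb, hab⟩ := h
  refine ⟨Matrix.blockDiagonal fun _ => a, Matrix.blockDiagonal fun _ => b, by simp [det_blockDiagonal, ha],
    by simp [det_blockDiagonal, hb], ?_⟩
  simp only [← blockDiagonal_mul, hab]

theorem isComm_scalar_odd {d : ℕ} (hd : Odd d) {ζ : K} (hζ : ζ ^ d = 1) :
    IsComm (ζ • (1 : Matrix (Fin d) (Fin d) K)) := by
  obtain ⟨e, rfl⟩ := hd
  let σ : Equiv.Perm (Fin (2 * e + 1)) := (finRotate (2 * e + 1)).symm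
  refine ⟨Matrix.diagonal fun i => ζ ^ i.val, σ.permMatrix K, ?_, ?_, ?_⟩
  · rw [det_diagonal, Finset.prod_pow_eq_pow_sum, Fin.sum_univ_eq_sum_range (fun i => i) (2 * e + 1)]
    have h2 := Finset.sum_range_id_mul_two (2 * e + 1)
    have h3 : ∑ i ∈ Finset.range (2 * e + 1), i = (2 * e + 1) * e := by
      simp only [Nat.add_sub_cancel] at h2
      linarith
    rw [h3, pow_mul, hζ, one_pow]
  · rw [det_permutation]
    simp [σ, sign_finRotate, pow_mul]
  · ext i j
    simp only [smul_mul, one_mul, Matrix.smul_apply, smul_eq_mul, Equiv.Perm.permMatrix,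
      PEquiv.toMatrix_apply, Equiv.toPEquiv_apply, Option.mem_some_iff, Matrix.mul_diagonal,
      Matrix.diagonal_mul]
    by_cases h : σ i = j
    · simp only [Option.mem_def, Option.some.injEq, if_pos h, mul_one, one_mul]
      have hij : i = finRotate (2 * e + 1) j := by rw [← h]; simp [σ]
      rw [hij, ← pow_succ']
      have h1 : (finRotate (2 * e + 1) j).val = (j.val + 1) % (2 * e + 1) := by
        rw [finRotate_succ_apply, Fin.val_add_one]
        split_ifs with hj
        · rw [hj, Fin.val_last, Nat.mod_self]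
        · rw [Nat.mod_eq_of_lt]
          have h2 : j.val ≠ 2 * e := fun h => hj (Fin.ext h)
          have := j.isLt
          omega
      rw [h1]
      exact pow_eq_pow_mod _ hζ
    · simp [h]

theorem exists_norm [Fintype K] (hK : Fintype.card K % 2 = 1) {η : K} (hη : η ≠ 0) (t : K) :
    ∃ u w : K, u * u - η * (w * w) = t := by
  classical
  have hf : (Polynomial.X ^ 2 - Polynomial.C t : Polynomial K).degree = 2 :=
    Polynomial.degree_X_pow_sub_C (by norm_num) t
  have hg : (Polynomial.C (-η) * Polynomial.X ^ 2 : Polynomial K).degree = 2 := by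
    rw [Polynomial.degree_C_mul_X_pow 2 (neg_ne_zero.2 hη)]; rfl
  obtain ⟨a, b, hab⟩ := FiniteField.exists_root_sum_quadratic hf hg hK
  refine ⟨a, b, ?_⟩
  simp only [Polynomial.eval_sub, Polynomial.eval_pow, Polynomial.eval_X, Polynomial.eval_C,
    Polynomial.eval_mul] at hab
  linear_combination hab

theorem isComm_scalar_even [Fintype K] (hK : Fintype.card K % 2 = 1) {h : ℕ} (hh : 1 ≤ h) {ζ : K}
    (hζ : ζ ^ h = -1) : IsComm (ζ • (1 : Matrix (Fin 2 × Fin h) (Fin 2 × Fin h) K)) := by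
  classical
  obtain ⟨k, rfl⟩ : ∃ k, h = k + 1 := ⟨h - 1, by omega⟩
  have hζ0 : ζ ≠ 0 := fun h0 => by simp [h0] at hζ
  let blk : Fin (k + 1) → Matrix (Fin 2) (Fin 2) K := fun j => !![0, ζ ^ (2 * j.val + 1); 1, 0]
  let s : Fin 2 → K := ![1, ζ⁻¹]
  let σ : Equiv.Perm (Fin (k + 1)) := (finRotate (k + 1)).symm
  let τ : Equiv.Perm (Fin 2 × Fin (k + 1)) := (Equiv.refl (Fin 2)).prodCongr σ
  let a : Matrix (Fin 2 × Fin (k + 1)) (Fin 2 × Fin (k + 1)) K := Matrix.blockDiagonal blk
  let b : Matrix (Fin 2 × Fin (k + 1)) (Fin 2 × Fin (k + 1)) K :=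
    Matrix.diagonal (fun x => s x.1) * τ.permMatrix K
  have ha : a.det = 1 := by
    show (Matrix.blockDiagonal blk).det = 1
    have h2 : ∀ n : ℕ, ∑ i ∈ Finset.range n, (2 * i + 1) = n * n := by
      intro n
      induction n with
      | zero => simp
      | succ n ih => rw [Finset.sum_range_succ, ih]; ring
    have h3 : ∀ j, (blk j).det = (-1) * ζ ^ (2 * j.val + 1) := fun j => by simp [blk, det_fin_two]
    rw [det_blockDiagonal, Finset.prod_congr rfl fun j _ => h3 j, Finset.prod_mul_distrib,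
      Finset.prod_pow_eq_pow_sum, Fin.sum_univ_eq_sum_range (fun i => 2 * i + 1) (k + 1), h2,
      Finset.prod_const, Finset.card_univ, Fintype.card_fin, pow_mul, hζ, ← mul_pow]
    norm_num
  have hbd : b.det ≠ 0 := by
    show (Matrix.diagonal (fun x : Fin 2 × Fin (k + 1) => s x.1) * τ.permMatrix K).det ≠ 0
    rw [det_mul, det_diagonal, det_permutation]
    refine mul_ne_zero (Finset.prod_ne_zero_iff.2 fun x _ => ?_) (by
      rcases Int.units_eq_one_or (Equiv.Perm.sign τ) with h1 | h1 <;> simp [h1])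
    obtain ⟨x, y⟩ := x
    fin_cases x <;> simp [s, hζ0]
  obtain ⟨u, w, huw⟩ := exists_norm hK hζ0 b.det⁻¹
  let z : Fin (k + 1) → Matrix (Fin 2) (Fin 2) K := fun j =>
    if j = 0 then !![u, ζ * w; w, u] else 1
  have hz : (Matrix.blockDiagonal z).det = b.det⁻¹ := by
    rw [det_blockDiagonal, Finset.prod_eq_single (0 : Fin (k + 1))]
    · simp [z, det_fin_two]
      linear_combination huw
    · intro j _ hj; simp [z, hj]
    · simp
  have hza : Matrix.blockDiagonal z * a = a * Matrix.blockDiagonal z := by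
    show Matrix.blockDiagonal z * Matrix.blockDiagonal blk = Matrix.blockDiagonal blk * Matrix.blockDiagonal z
    rw [← blockDiagonal_mul, ← blockDiagonal_mul]
    congr 1
    funext j
    by_cases hj : j = 0
    · subst hj
      simp [z, blk, mul_comm]
    · simp [z, hj]
  have hrel : ζ • (b * a) = a * b := by
    ext ⟨i, j⟩ ⟨i', j'⟩
    have hb : ∀ (i : Fin 2) (j : Fin (k + 1)) (i' : Fin 2) (j' : Fin (k + 1)),
        b (i, j) (i', j') = if i = i' ∧ σ j = j' then s i else 0 := by
      intro i j i' j'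
      simp [b, τ, Matrix.diagonal_mul, Equiv.Perm.permMatrix, PEquiv.toMatrix_apply, Prod.ext_iff]
    rw [Matrix.smul_apply, Matrix.mul_apply, Matrix.mul_apply, Fintype.sum_prod_type,
      Fintype.sum_prod_type]
    rw [Finset.sum_eq_single i (fun l _ hl => Finset.sum_eq_zero fun m _ => by
        rw [hb, if_neg (fun h => hl h.1.symm), zero_mul]) (by simp),
      Finset.sum_eq_single (σ j) (fun m _ hm => by
        rw [hb, if_neg (fun h => hm h.2.symm), zero_mul]) (by simp),
      Finset.sum_eq_single i' (fun l _ hl => Finset.sum_eq_zero fun m _ => by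
        rw [hb, if_neg (fun h => hl h.1), mul_zero]) (by simp),
      Finset.sum_eq_single (σ.symm j') (fun m _ hm => by
        rw [hb, if_neg (fun h => hm (by rw [← h.2, Equiv.symm_apply_apply])), mul_zero]) (by simp),
      hb, hb, if_pos ⟨rfl, rfl⟩, if_pos ⟨rfl, Equiv.apply_symm_apply _ _⟩]
    simp only [a, blockDiagonal_apply, smul_eq_mul]
    by_cases hj : σ j = j'
    · subst hj
      rw [if_pos rfl, if_pos (Equiv.symm_apply_apply _ _).symm]
      have hj' : j = finRotate (k + 1) (σ j) := by simp [σ]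
      generalize σ j = m at hj'
      subst hj'
      have h1 : (finRotate (k + 1) m).val = (m.val + 1) % (k + 1) := by
        rw [finRotate_succ_apply, Fin.val_add_one]
        split_ifs with hj
        · rw [hj, Fin.val_last, Nat.mod_self]
        · rw [Nat.mod_eq_of_lt]
          have h2 : m.val ≠ k := fun h => hj (Fin.ext h)
          have := m.isLt
          omega
      have h2 : ζ ^ (2 * ((m.val + 1) % (k + 1)) + 1) = ζ ^ (2 * (m.val + 1) + 1) := by
        have h3 : (ζ ^ 2) ^ (k + 1) = 1 := by rw [← pow_mul, mul_comm, pow_mul, hζ]; norm_num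
        rw [pow_succ, pow_succ, pow_mul, pow_mul, ← pow_eq_pow_mod _ h3]
      simp only [blk]
      rw [h1, h2]
      fin_cases i <;> fin_cases i' <;> simp [s, mul_inv_cancel₀ hζ0]
      rw [pow_succ ζ (2 * (m.val + 1)), mul_assoc, mul_inv_cancel₀ hζ0, mul_one, mul_add,
        mul_one, pow_add, pow_succ]
      ring
    · rw [if_neg hj, if_neg (fun h => hj (by rw [h, Equiv.apply_symm_apply]))]
      simp
  refine ⟨a, b * Matrix.blockDiagonal z, ha, by rw [det_mul, hz, mul_inv_cancel₀ hbd], ?_⟩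
  rw [smul_mul, one_mul, mul_assoc b, hza, ← mul_assoc b, ← smul_mul, hrel, mul_assoc]

/-- scalar matrices of determinant one are commutators -/
theorem isComm_scalar [Fintype K] {n : ℕ} {ζ : K} (hn : 1 ≤ n) (hζ : ζ ^ n = 1) :
    IsComm (ζ • (1 : Matrix (Fin n) (Fin n) K)) := by
  classical
  obtain ⟨d, hd, hdn, hd1, hmin⟩ : ∃ d, 1 ≤ d ∧ d ∣ n ∧ ζ ^ d = 1 ∧
      ∀ m, 1 ≤ m → m < d → ζ ^ m ≠ 1 :=
    ⟨orderOf ζ, orderOf_pos_iff.2 (isOfFinOrder_iff_pow_eq_one.2 ⟨n, hn, hζ⟩),
      orderOf_dvd_of_pow_eq_one hζ, pow_orderOf_eq_one ζ,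
      fun m h1 h2 h3 => absurd (orderOf_le_of_pow_eq_one h1 h3) (not_le.2 h2)⟩
  have hd' : IsComm (ζ • (1 : Matrix (Fin d) (Fin d) K)) := by
    rcases Nat.even_or_odd d with ⟨h, rfl⟩ | ho
    · have hh : ζ ^ h = -1 := by
        have h1 : (ζ ^ h) * (ζ ^ h) = 1 := by rw [← pow_add]; exact hd1
        rcases mul_self_eq_one_iff.1 h1 with h2 | h2
        · exact absurd h2 (hmin h (by omega) (by omega))
        · exact h2
      have hodd : Fintype.card K % 2 = 1 := by
        by_contra hev
        have hc : ringChar K = 2 := FiniteField.even_card_iff_char_two.2 (by omega)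
        have h2 : (2 : K) = 0 := by
          have := ringChar.Nat.cast_ringChar (R := K)
          rw [hc] at this
          exact_mod_cast this
        exact hmin h (by omega) (by omega) (by rw [hh]; linear_combination -h2)
      have h1 := (isComm_scalar_even hodd (by omega) hh).reindex
        ((finCongr (two_mul h).symm).trans finProdFinEquiv.symm)
      rwa [submatrix_smul, Pi.smul_apply, Pi.smul_apply, submatrix_one_equiv] at h1
    · exact isComm_scalar_odd ho hd1
  obtain ⟨m, rfl⟩ := hdn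
  have h1 := (hd'.blockDiagonal (κ := Fin m)).reindex finProdFinEquiv.symm
  rwa [show (fun _ : Fin m => ζ • (1 : Matrix (Fin d) (Fin d) K)) = ζ • (1 : Fin m → Matrix (Fin d) (Fin d) K)
    from rfl, blockDiagonal_smul, blockDiagonal_one, submatrix_smul, Pi.smul_apply, Pi.smul_apply,
    submatrix_one_equiv] at h1

end Cfsg.Agent.SLComm
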