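/-
Witnesses over the field with three elements: `A = M * C` and `C` are roots of `X^3 - X - 1`.
-/
import Mathlib

set_option autoImplicit false

namespace Cfsg.Agent.SLComm

open Matrix

/-- decoding of a matrix from its base three code -/
def dec3 (x : ℕ) : Matrix (Fin 3) (Fin 3) (ZMod 3) :=
  Matrix.of fun i j => ((x / 3 ^ (3 * i.val + j.val) % 3 : ℕ) : ZMod 3)

/-- witnesses for companion matrices -/
def cycCodes : List ℕ := [6138, 16617, 10872, 19530, 17100, 8946, 12078, 10134, 12816]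

/-- witnesses for reducible matrices -/
def triCodes : List ℕ := [9705, 4167, 10134, 2952, 3162, 17100, 19530, 16668, 6321, 17100, 8946, 11142, 18585, 2466,
17622, 4167, 15426, 4905, 0, 2466, 17640, 19530, 4923, 0, 11160, 0, 2952, 13077, 18810, 17100,
4167, 2952, 17379, 5391, 18585, 19530, 5403, 8946, 10134, 15426, 19530, 17148, 2952, 18849,
2466, 17148, 18585, 2466, 6321, 12078, 8946, 3162, 5166, 17100]

/-- a root of `X^3 - X - 1` -/
def IsRoot3 (A : Matrix (Fin 3) (Fin 3) (ZMod 3)) : Prop := A * A * A = A + 1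

instance (A : Matrix (Fin 3) (Fin 3) (ZMod 3)) : Decidable (IsRoot3 A) :=
  inferInstanceAs (Decidable (A * A * A = A + 1))

theorem cyc_table : ∀ a b : ZMod 3,
    IsRoot3 (dec3 (cycCodes.getD (3 * a.val + b.val) 0)) ∧
    IsRoot3 (!![0, 0, 1; 1, 0, a; 0, 1, b] * dec3 (cycCodes.getD (3 * a.val + b.val) 0)) := by
  decide +kernel

theorem tri_table : ∀ e t q r : ZMod 3, e ≠ 0 →
    (e = 1 ∧ t = 2 ∧ r = -q) ∨
    (IsRoot3 (dec3 (triCodes.getD (27 * (e.val - 1) + 9 * t.val + 3 * q.val + r.val) 0)) ∧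
    IsRoot3 (!![0, -e, q; 1, t, r; 0, 0, e] *
      dec3 (triCodes.getD (27 * (e.val - 1) + 9 * t.val + 3 * q.val + r.val) 0))) := by
  decide +kernel

end Cfsg.Agent.SLComm
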