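/-
Every matrix of determinant one is a commutator: fields with at least three elements.
-/
import Cfsg.Agent.Lib.Classical.Commutator.Basic
import Cfsg.Agent.Lib.Classical.Commutator.ThreeTable

set_option autoImplicit false

namespace Cfsg.Agent.SLComm

open Polynomial Matrix Module

variable {K : Type*} [Field K]

theorem split_two (M : Matrix (Fin 2) (Fin 2) K) (hdet : M.det = 1) (hns : ∀ a : K, M ≠ a • 1) :
    ∃ (P : GL (Fin 2) K) (c' r' : Fin 1 → K) (X' : Matrix (Fin 1) (Fin 1) K),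
      P.1 * M * P⁻¹.1 = bord 1 r' c' X' ∧ X' - vecMulVec c' r' = 1 := by
  obtain ⟨v, hv⟩ : ∃ v, M *ᵥ v ∉ Submodule.span K {v} := by
    by_contra hall
    push Not at hall
    obtain ⟨x, hx⟩ := Submodule.mem_span_singleton.1 (hall ![1, 0])
    obtain ⟨y, hy⟩ := Submodule.mem_span_singleton.1 (hall ![0, 1])
    obtain ⟨z, hz⟩ := Submodule.mem_span_singleton.1 (hall ![1, 1])
    have a := congrFun hx 0; have b := congrFun hx 1
    have c := congrFun hy 0; have d := congrFun hy 1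
    have e := congrFun hz 0; have f := congrFun hz 1
    simp [mulVec, dotProduct, Fin.sum_univ_two] at a b c d e f
    refine hns x ?_
    ext i j
    fin_cases i <;> fin_cases j <;> simp
    · exact a.symm
    · exact c.symm
    · exact b.symm
    · linear_combination -f + e - a + b - c
  have hv0 : v ≠ 0 := fun h => hv (by simp [h])
  have hy : v ∉ Submodule.span K {M *ᵥ v - v} := by
    intro h
    obtain ⟨t, ht⟩ := Submodule.mem_span_singleton.1 h
    rcases eq_or_ne t 0 with rfl | ht0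
    · rw [zero_smul] at ht; exact hv0 ht.symm
    · refine hv (Submodule.mem_span_singleton.2 ⟨t⁻¹ + 1, ?_⟩)
      rw [add_smul, one_smul]
      conv_lhs => arg 1; rw [← ht, smul_smul, inv_mul_cancel₀ ht0, one_smul]
      abel
  obtain ⟨d, hd, hdv⟩ := exists_functional hy
  let u := (d ⬝ᵥ v)⁻¹ • d
  have huv : u ⬝ᵥ v = 1 := by simp only [u, smul_dotProduct, smul_eq_mul, inv_mul_cancel₀ hdv]
  have huM : u ⬝ᵥ (M *ᵥ v) = 1 := by
    have h1 : u ⬝ᵥ (M *ᵥ v - v) = 0 := by
      simp only [u, smul_dotProduct, hd _ (Submodule.mem_span_singleton_self _), smul_zero]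
    rwa [dotProduct_sub, huv, sub_eq_zero] at h1
  obtain ⟨Q, hQ0, huQ⟩ := exists_frame huv
  refine ⟨Q⁻¹, fun j => (Q⁻¹.1 * M * Q.1) j.succ 0, fun j => (Q⁻¹.1 * M * Q.1) 0 j.succ,
    fun a b => (Q⁻¹.1 * M * Q.1) a.succ b.succ, ?_, ?_⟩
  · rw [inv_inv]
    have h00 : (Q⁻¹.1 * M * Q.1) 0 0 = 1 := by
      have h1 : (Q⁻¹.1 * M * Q.1) 0 0 = vecCons 1 0 ⬝ᵥ ((Q⁻¹.1 * M * Q.1) *ᵥ vecCons 1 0) := by
        simp [mulVec, dotProduct, Fin.sum_univ_two]
      rw [h1, ← mulVec_mulVec, hQ0, ← mulVec_mulVec, ← huQ, ← dotProduct_mulVec,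
        mulVec_mulVec (M *ᵥ v) Q.1, Units.mul_inv, one_mulVec, huM]
    ext a b
    refine Fin.cases ?_ (fun a => ?_) a <;> refine Fin.cases ?_ (fun b => ?_) b <;>
      simp only [bord, Matrix.of_apply, cons_val_zero, cons_val_succ, h00]
  · have h1 : (Q⁻¹.1 * M * Q.1).det = 1 := by rw [det_units_conj' Q M]; exact hdet
    have h00 : (Q⁻¹.1 * M * Q.1) 0 0 = 1 := by
      have h1 : (Q⁻¹.1 * M * Q.1) 0 0 = vecCons 1 0 ⬝ᵥ ((Q⁻¹.1 * M * Q.1) *ᵥ vecCons 1 0) := by
        simp [mulVec, dotProduct, Fin.sum_univ_two]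
      rw [h1, ← mulVec_mulVec, hQ0, ← mulVec_mulVec, ← huQ, ← dotProduct_mulVec,
        mulVec_mulVec (M *ᵥ v) Q.1, Units.mul_inv, one_mulVec, huM]
    rw [det_fin_two, h00, one_mul] at h1
    ext i j
    obtain rfl : i = 0 := Subsingleton.elim _ _
    obtain rfl : j = 0 := Subsingleton.elim _ _
    show (Q⁻¹.1 * M * Q.1) 1 1 - (Q⁻¹.1 * M * Q.1) 1 0 * (Q⁻¹.1 * M * Q.1) 0 1 = 1
    linear_combination h1

/-- the base factorization with a single root `b` -/
theorem pair_scalar (b : K) :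
    Pair (X - C b) (fun p => p.eval b) (1 : Matrix (Fin 1) (Fin 1) K) := by
  have hC : Cyc (X - C b) (b • (1 : Matrix (Fin 1) (Fin 1) K)) (fun _ => 1) := by
    refine ⟨monic_X_sub_C b, natDegree_X_sub_C b, ?_, fun p hp h0 => ?_⟩
    · rw [map_sub, aeval_X, aeval_C, Algebra.algebraMap_eq_smul_one, sub_self]
    · have hd : p.degree ≤ 0 := Nat.WithBot.lt_one_iff_le_zero.1 (by exact_mod_cast hp)
      rw [eq_C_of_degree_le_zero hd] at h0 ⊢
      have := congrFun h0 0
      simp [aeval_C, Algebra.algebraMap_eq_smul_one, smul_mulVec] at this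
      rw [this, map_zero]
  refine ⟨b • 1, b • 1, _, fun _ => 1, one_mul _, hC, ?_, fun p => ?_⟩
  · rw [transpose_smul, transpose_one]; exact hC
  · rw [aeval_def, det_fin_one, ← aeval_def]
    induction p using Polynomial.induction_on' with
    | add p q hp hq => simp [map_add, hp, hq]
    | monomial k c => simp [aeval_monomial, Algebra.algebraMap_eq_smul_one, _root_.smul_pow, mul_comm]

theorem transvection_case {n : ℕ} (hn : 3 ≤ n) (g : Matrix (Fin n) (Fin n) K) (hdet : g.det = 1)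
    (hr : ¬ 2 ≤ finrank K (img (g - 1))) : IsComm g := by
  obtain ⟨a, b, hab⟩ := exists_vecMulVec (show finrank K (img (g - 1)) ≤ 1 by omega)
  rw [sub_eq_iff_eq_add'] at hab
  rw [hab]
  exact isComm_transvection hn (dot_eq_zero_of_det (hab ▸ hdet))

theorem comm_large {n : ℕ} (hn : 2 ≤ n) [Fintype K] (hK : 4 ≤ Fintype.card K)
    (g : Matrix (Fin n) (Fin n) K) (hdet : g.det = 1) : IsComm g := by
  classical
  by_cases hs : ∃ a : K, g = a • 1
  · obtain ⟨a, rfl⟩ := hs
    refine isComm_scalar (by omega) ?_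
    rwa [det_smul, det_one, mul_one, Fintype.card_fin] at hdet
  push Not at hs
  obtain ⟨x, -, hx⟩ : ∃ x ∈ (Finset.univ : Finset K), x ∉ ({0, 1, -1} : Finset K) := by
    by_contra hall
    push Not at hall
    have h1 : (Finset.univ : Finset K) ⊆ {0, 1, -1} := fun x hx => hall x hx
    have := le_trans (Finset.card_le_card h1) Finset.card_le_three
    rw [Finset.card_univ] at this
    omega
  simp only [Finset.mem_insert, Finset.mem_singleton, not_or] at hx
  obtain ⟨hx0, hx1, hxm⟩ := hx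
  have hxx : x ≠ x⁻¹ := by
    intro h
    have : x * x = 1 := by
      nth_rewrite 2 [h]
      exact mul_inv_cancel₀ hx0
    rcases mul_self_eq_one_iff.1 this with h' | h'
    exacts [hx1 h', hxm h']
  have hxi : x⁻¹ ≠ 1 := fun h => hx1 (inv_eq_one.1 h)
  obtain ⟨m, rfl⟩ : ∃ m, n = m + 2 := ⟨n - 2, by omega⟩
  match m with
  | 0 =>
    obtain ⟨P, c', r', X', hM, hX⟩ := split_two g hdet hs
    have h1 := (hX.symm ▸ pair_scalar x⁻¹).step (X' := X') x (by simpa [sub_eq_zero] using hxx)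
    refine IsComm.of_conj P (hM ▸ h1.isComm (by simp [hx0]) fun t ht => ?_)
    refine ⟨C 1 + C ((t - 1) / (x - x⁻¹)) * (X - C x⁻¹), ?_⟩
    simp [div_mul_cancel₀ _ (sub_ne_zero.2 hxx)]
  | k + 1 =>
    by_cases hr : 2 ≤ finrank K (img (g - 1))
    swap
    · exact transvection_case (by omega) g hdet hr
    have hne : ∀ j : ℕ, (Pi.single 0 1 : Fin (j + 1) → K) ≠ 0 := fun j => by simp
    obtain ⟨P, c₁, r₁, X₁, hM, hc₁, hr₁, -, -, hd₁, hnext⟩ := exists_split Finset.univ
      (by rw [Finset.card_univ]; omega) (Or.inl (by rw [Finset.card_univ]; omega)) (by omega)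
      (fun h3 => absurd h3 (by rw [Finset.card_univ]; omega)) g hdet hr hs _ _ (hne _) (hne _)
    obtain ⟨hr2, hns2⟩ := hnext (by omega)
    obtain ⟨P₂, c₂, r₂, X₂, hM₂, hc₂, hr₂', -, -, hd₂, hnext₂⟩ := exists_split Finset.univ
      (by rw [Finset.card_univ]; omega) (Or.inl (by rw [Finset.card_univ]; omega)) (by omega)
      (fun h3 => absurd h3 (by rw [Finset.card_univ]; omega)) _ hd₁ hr2 hns2 c₁ r₁ hc₁ hr₁
    have h0 := (fac_regular Finset.univ (by rw [Finset.card_univ]; omega) _ _ hd₂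
      (fun hk => hnext₂ (by omega)) c₂ r₂ hc₂ hr₂').pair
    have h1 := (h0.step (X' := X₂) x⁻¹ (by
      simp only [eval_pow, eval_sub, eval_X, eval_C]
      exact pow_ne_zero _ (sub_ne_zero.2 hxi))).conj P₂⁻¹
    rw [mem_conj hM₂] at h1
    have h2 := h1.step (X' := X₁) x (by
      simp only [eval_mul, eval_pow, eval_sub, eval_X, eval_C]
      exact mul_ne_zero (sub_ne_zero.2 hxx) (pow_ne_zero _ (sub_ne_zero.2 hx1)))
    refine IsComm.of_conj P (hM ▸ h2.isComm (by simp [mul_inv_cancel₀ hx0]) fun t ht => ?_)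
    refine ⟨C 1 + C ((t - 1) / ((x - x⁻¹) * (x - 1))) * ((X - C x⁻¹) * (X - C 1)), ?_⟩
    simp [div_mul_cancel₀ _ (mul_ne_zero (sub_ne_zero.2 hxx) (sub_ne_zero.2 hx1))]

/-! ### The field with three elements -/

theorem three_eq_zero [Fintype K] (hK : Fintype.card K = 3) : (3 : K) = 0 := by
  have := FiniteField.cast_card_eq_zero K
  rw [hK] at this
  exact_mod_cast this

theorem two_ne_zero_of_card [Fintype K] (hK : Fintype.card K = 3) : (2 : K) ≠ 0 := fun h =>
  one_ne_zero (α := K) (by linear_combination three_eq_zero hK - h)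

theorem cyc_of_irreducible {n : ℕ} {f : K[X]} (hf : f.Monic) (hd : f.natDegree = n)
    (hirr : Irreducible f) {A : Matrix (Fin n) (Fin n) K} (hA : aeval A f = 0) {w : Fin n → K}
    (hw : w ≠ 0) : Cyc f A w := by
  refine ⟨hf, hd, hA, fun p hp h0 => ?_⟩
  by_contra hp0
  have hcop : IsCoprime f p := by
    refine hirr.coprime_iff_not_dvd.2 fun hdvd => ?_
    have h1 := natDegree_le_of_dvd hdvd hp0
    have h2 := (natDegree_lt_iff_degree_lt hp0).2 hp
    omega
  obtain ⟨a, b, hab⟩ := hcop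
  refine hw ?_
  have := congrArg (fun q => aeval A q *ᵥ w) hab
  simpa [hA, ← mulVec_mulVec, h0] using this.symm

theorem exists_three_form (M : Matrix (Fin 3) (Fin 3) K) (hns : ∀ a : K, M ≠ a • 1) :
    ∃ (P : GL (Fin 3) K) (a b c : K), (∃ s, P.1 * M * P⁻¹.1 = !![0, a, b; 1, c, s; 0, 0, M.det / -a] ∧ a ≠ 0) ∨
      P.1 * M * P⁻¹.1 = !![0, 0, a; 1, 0, b; 0, 1, c] ∨ M.det = 0 := by
  by_cases hM0 : M.det = 0
  · exact ⟨1, 0, 0, 0, Or.inr (Or.inr hM0)⟩
  have hinj : Function.Injective fun x => M *ᵥ x :=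
    Matrix.mulVec_injective_iff_isUnit.2 ((Matrix.isUnit_iff_isUnit_det _).2 (isUnit_iff_ne_zero.2 hM0))
  obtain ⟨v, hv⟩ : ∃ v, M *ᵥ v ∉ Submodule.span K {v} := by
    by_contra hall
    push Not at hall
    have h1 : ∀ x, ∃ t : K, t • x = M *ᵥ x := fun x => Submodule.mem_span_singleton.1 (hall x)
    choose t ht using h1
    refine hns (t (Pi.single 0 1)) (ext_of_mulVec_single fun j => ?_)
    rw [smul_mulVec, one_mulVec]
    rcases eq_or_ne j 0 with rfl | hj
    · exact (ht _).symm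
    · have hs := ht (Pi.single 0 1 + Pi.single j 1)
      rw [mulVec_add, ← ht (Pi.single 0 1), ← ht (Pi.single j 1)] at hs
      have a := congrFun hs 0
      have b := congrFun hs j
      simp [Pi.single_apply, hj, hj.symm] at a b
      rw [← ht (Pi.single j 1), ← a, b]
  have hv0 : v ≠ 0 := fun h => hv (by simp [h])
  obtain ⟨w, hw, hwM⟩ : ∃ w, w ∉ Submodule.span K {v} ⊔ Submodule.span K {M *ᵥ v} ∧
      (M *ᵥ (M *ᵥ v) ∈ Submodule.span K {v} ⊔ Submodule.span K {M *ᵥ v} ∨ w = M *ᵥ (M *ᵥ v)) := by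
    by_cases h : M *ᵥ (M *ᵥ v) ∈ Submodule.span K {v} ⊔ Submodule.span K {M *ᵥ v}
    · obtain ⟨w, -, hw⟩ := SetLike.exists_of_lt (ne_top_of_finrank (k := 3)
        (p := Submodule.span K {v} ⊔ Submodule.span K {M *ᵥ v})
        (lt_of_le_of_lt (finrank_pair_le _ _) (by norm_num))).lt_top
      exact ⟨w, hw, Or.inl h⟩
    · exact ⟨_, h, Or.inr rfl⟩
  let Q : Matrix (Fin 3) (Fin 3) K := Matrix.of fun i j => ![v, M *ᵥ v, w] j i
  have hQ : ∀ x : Fin 3 → K, Q *ᵥ x = x 0 • v + x 1 • (M *ᵥ v) + x 2 • w := by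
    intro x
    funext i
    simp [Q, mulVec, dotProduct, Fin.sum_univ_three]
    ring
  have hQu : IsUnit Q := by
    rw [← Matrix.mulVec_injective_iff_isUnit]
    intro x x' hxx
    rw [← sub_eq_zero]
    have h0 : Q *ᵥ (x - x') = 0 := by rw [mulVec_sub, hxx, sub_self]
    rw [hQ] at h0
    generalize x - x' = y at h0
    have h2 : y 2 = 0 := by
      by_contra h2
      refine hw ((Submodule.smul_mem_iff _ h2).1 ?_)
      rw [eq_neg_of_add_eq_zero_right h0]
      exact Submodule.neg_mem _ (Submodule.add_mem_sup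
        (Submodule.smul_mem _ _ (Submodule.mem_span_singleton_self _))
        (Submodule.smul_mem _ _ (Submodule.mem_span_singleton_self _)))
    rw [h2, zero_smul, add_zero] at h0
    have h1 : y 1 = 0 := by
      by_contra h1
      refine hv ((Submodule.smul_mem_iff _ h1).1 ?_)
      rw [eq_neg_of_add_eq_zero_right h0]
      exact Submodule.neg_mem _ (Submodule.smul_mem _ _ (Submodule.mem_span_singleton_self _))
    rw [h1, zero_smul, add_zero, smul_eq_zero] at h0
    funext i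
    fin_cases i
    exacts [h0.resolve_right hv0, h1, h2]
  obtain ⟨P, hP⟩ : ∃ P : GL (Fin 3) K, P⁻¹.1 = Q := ⟨hQu.unit⁻¹, by simp⟩
  have hPQ : P.1 * Q = 1 := by rw [← hP, Units.mul_inv]
  have hcol : ∀ (j : Fin 3) (x : Fin 3 → K), M *ᵥ ![v, M *ᵥ v, w] j = Q *ᵥ x →
      (P.1 * M * P⁻¹.1) *ᵥ Pi.single j 1 = x := by
    intro j x hx
    rw [hP, ← mulVec_mulVec, mulVec_single_one]
    show (P.1 * M) *ᵥ (![v, M *ᵥ v, w] j) = x
    rw [← mulVec_mulVec, hx, mulVec_mulVec, hPQ, one_mulVec]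
  have c0 := hcol 0 ![0, 1, 0] (by rw [hQ]; simp)
  obtain ⟨z, hz⟩ : ∃ z, Q *ᵥ z = M *ᵥ w :=
    ⟨P.1 *ᵥ (M *ᵥ w), by rw [← hP, gl_inv_mulVec]⟩
  have c2 := hcol 2 z (by simp [hz])
  have hent : ∀ i j, (P.1 * M * P⁻¹.1) i j = ((P.1 * M * P⁻¹.1) *ᵥ Pi.single j 1) i := fun i j => by
    rw [mulVec_single_one]; rfl
  rcases hwM with hmem | hw2
  · obtain ⟨p, hp, q, hq, hpq⟩ := Submodule.mem_sup.1 hmem
    obtain ⟨a, rfl⟩ := Submodule.mem_span_singleton.1 hp
    obtain ⟨c, rfl⟩ := Submodule.mem_span_singleton.1 hq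
    have c1 := hcol 1 ![a, c, 0] (by rw [hQ]; simp [← hpq, mulVec_mulVec])
    have hform : P.1 * M * P⁻¹.1 = !![0, a, z 0; 1, c, z 1; 0, 0, z 2] := by
      clear hcol
      generalize P.1 * M * P⁻¹.1 = T at *
      ext i j
      fin_cases j <;> fin_cases i <;> rw [hent] <;> simp only [Fin.zero_eta, Fin.mk_one, Fin.reduceFinMk, c0, c1, c2] <;> simp
    have hdet : M.det = -a * z 2 := by
      rw [← det_units_conj P M, hform, det_fin_three]
      simp
    have ha : a ≠ 0 := fun h => hM0 (by rw [hdet, h]; simp)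
    refine ⟨P, a, z 0, c, Or.inl ⟨z 1, ?_, ha⟩⟩
    rw [hform, hdet, mul_div_cancel_left₀ _ (neg_ne_zero.2 ha)]
  · have c1 := hcol 1 ![0, 0, 1] (by rw [hQ]; simp [hw2])
    refine ⟨P, z 0, z 1, z 2, Or.inr (Or.inl ?_)⟩
    clear hcol
    generalize P.1 * M * P⁻¹.1 = T at *
    ext i j
    fin_cases j <;> fin_cases i <;> rw [hent] <;> simp only [Fin.zero_eta, Fin.mk_one, Fin.reduceFinMk, c0, c1, c2] <;> simp

/-- the polynomial `X^3 - X - 1` -/
noncomputable def f3 : K[X] := X ^ 3 - X - C 1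

theorem f3_monic : (f3 : K[X]).Monic := by unfold f3; monicity!

theorem f3_natDegree : (f3 : K[X]).natDegree = 3 := by unfold f3; compute_degree!

theorem f3_irreducible (h3 : ∀ x : K, x = 0 ∨ x = 1 ∨ x = -1) : Irreducible (f3 : K[X]) := by
  rw [f3_monic.irreducible_iff_roots_eq_zero_of_degree_le_three (by rw [f3_natDegree]; norm_num)
    (by rw [f3_natDegree])]
  refine Multiset.eq_zero_of_forall_notMem fun x hx => ?_
  rw [mem_roots f3_monic.ne_zero] at hx
  rcases h3 x with rfl | rfl | rfl <;> simp [f3] at hx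

theorem tail_three [Fintype K] (hK : Fintype.card K = 3) (h3 : ∀ x : K, x = 0 ∨ x = 1 ∨ x = -1)
    (M : Matrix (Fin 3) (Fin 3) K) (hdet : M.det = 1) (hrank : 2 ≤ finrank K (img (M - 1)))
    (hns : ∀ a : K, M ≠ a • 1) :
    ∃ D : K[X] → K, Pair f3 D M ∧ D X = 1 ∧ ∃ p : K[X], p.eval 1 = 1 ∧ D p = -1 := by
  let e : ZMod 3 ≃+* K := ZMod.ringEquivOfPrime K Nat.prime_three hK
  let φ : Matrix (Fin 3) (Fin 3) (ZMod 3) →+* Matrix (Fin 3) (Fin 3) K := e.toRingHom.mapMatrix
  obtain ⟨P, a, b, c, h⟩ := exists_three_form M hns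
  suffices key : ∃ M₀ C₀ : Matrix (Fin 3) (Fin 3) (ZMod 3),
      P.1 * M * P⁻¹.1 = φ M₀ ∧ IsRoot3 C₀ ∧ IsRoot3 (M₀ * C₀) by
    obtain ⟨M₀, C₀, hM₀, hC, hA⟩ := key
    have hr : ∀ B : Matrix (Fin 3) (Fin 3) (ZMod 3), IsRoot3 B → aeval (φ B) (f3 : K[X]) = 0 := by
      intro B hB
      have h1 := congrArg φ (show B * B * B = B + 1 from hB)
      simp only [map_mul, map_add, map_one] at h1
      simp only [f3, map_sub, map_pow, aeval_X, map_one]
      rw [pow_succ, pow_two, h1]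
      abel
    have hw : (Pi.single 0 1 : Fin 3 → K) ≠ 0 := by simp
    let A := φ (M₀ * C₀)
    refine ⟨fun p => (aeval A p).det, ?_, ?_, f3 - 1, ?_, ?_⟩
    · have hp : Pair f3 (fun p => (aeval A p).det) (φ M₀) := ⟨A, φ C₀, _, _, (map_mul φ _ _).symm,
        cyc_of_irreducible f3_monic f3_natDegree (f3_irreducible h3) (hr _ hA) hw,
        cyc_of_irreducible f3_monic f3_natDegree (f3_irreducible h3)
          (by rw [aeval_transpose', hr _ hC, transpose_zero]) hw, fun p => rfl⟩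
      have := hp.conj P⁻¹
      rwa [mem_conj hM₀] at this
    · show (aeval A (X : K[X])).det = 1
      rw [aeval_X]
      let B : Matrix (Fin 3) (Fin 3) K := !![0, 0, 1; 1, 0, 1; 0, 1, 0]
      have hB : aeval B (f3 : K[X]) = 0 := by
        simp only [f3, map_sub, map_pow, aeval_X, map_one, pow_succ, pow_zero, one_mul]
        ext i j
        fin_cases i <;> fin_cases j <;> simp [B, Matrix.mul_apply, Fin.sum_univ_three]
      obtain ⟨Q, hQ⟩ := similar_conj
        (cyc_of_irreducible f3_monic f3_natDegree (f3_irreducible h3) hB hw)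
        (cyc_of_irreducible f3_monic f3_natDegree (f3_irreducible h3) (hr _ hA) hw)
      show (φ (M₀ * C₀)).det = 1
      rw [hQ, det_units_conj, det_fin_three]
      simp [B]
    · simp [f3]
      linear_combination -(three_eq_zero hK)
    · show (aeval A (f3 - 1 : K[X])).det = -1
      rw [map_sub, hr _ hA, map_one, zero_sub, det_neg, det_one]
      norm_num
  rcases h with ⟨s, hf, ha⟩ | hf | hf
  · rw [hdet] at hf
    obtain ⟨E, hE⟩ := e.surjective (1 / -a)
    obtain ⟨T, hT⟩ := e.surjective c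
    obtain ⟨Qq, hQ⟩ := e.surjective b
    obtain ⟨R, hR⟩ := e.surjective s
    have hE0 : E ≠ 0 := fun h => by
      rw [h, map_zero] at hE
      exact (one_div_ne_zero (neg_ne_zero.2 ha)) hE.symm
    have hEa : e (-E) = a := by
      rw [map_neg, hE]
      rcases h3 a with h | h | h
      · exact absurd h ha
      · rw [h]; norm_num
      · rw [h]; norm_num
    rcases tri_table E T Qq R hE0 with ⟨h1, h2, h4⟩ | ⟨h1, h2⟩
    · exfalso
      let x : Fin 3 → K := ![1, -1, 0]
      let y : Fin 3 → K := ![-1, -1, b]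
      have hv : P.1 * M * P⁻¹.1 - 1 = vecMulVec x y := by
        have ha' : a = -1 := by rw [← hEa, h1, map_neg, map_one]
        have hc' : c = -1 := by
          rw [← hT, h2, show (2 : ZMod 3) = -1 by decide, map_neg, map_one]
        have hs' : s = -b := by rw [← hR, h4, map_neg, hQ]
        rw [hf, ha', hc', hs']
        ext i j
        fin_cases i <;> fin_cases j <;> simp [x, y, vecMulVec_apply]
        all_goals
          have h30 := three_eq_zero hK
          first | linear_combination h30 | linear_combination -h30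
      have h5 : M - 1 = vecMulVec (P⁻¹.1 *ᵥ x) (y ᵥ* P.1) := by
        rw [← vecMulVec_mul, ← mul_vecMulVec, ← hv, mul_sub, sub_mul, mul_one, Units.inv_mul]
        simp only [← mul_assoc, Units.inv_mul, one_mul]
        rw [mul_assoc, Units.inv_mul, mul_one]
      have h6 : img (M - 1) ≤ Submodule.span K {P⁻¹.1 *ᵥ x} := by
        rintro _ ⟨z, rfl⟩
        rw [Submodule.mem_span_singleton]
        exact ⟨(y ᵥ* P.1) ⬝ᵥ z, by rw [mulVecLin_apply, h5, vecMulVec_mulVec, op_smul_eq_smul]⟩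
      have := Submodule.finrank_mono h6
      have := finrank_span_singleton_le (K := K) (P⁻¹.1 *ᵥ x)
      omega
    · refine ⟨_, _, ?_, h1, h2⟩
      rw [hf, ← hEa, ← hT, ← hQ, ← hR, hEa, ← hE]
      ext i j
      fin_cases i <;> fin_cases j <;> simp [φ, hEa]
  · obtain ⟨B, hB⟩ := e.surjective b
    obtain ⟨C', hC⟩ := e.surjective c
    have ha : a = 1 := by
      rw [← hdet, ← det_units_conj P M, hf, det_fin_three]
      simp
    obtain ⟨h1, h2⟩ := cyc_table B C'
    refine ⟨_, _, ?_, h1, h2⟩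
    rw [hf, ha, ← hB, ← hC]
    ext i j
    fin_cases i <;> fin_cases j <;> simp [φ]
  · rw [hdet] at hf
    exact absurd hf one_ne_zero

theorem comm_three [Fintype K] (hK : Fintype.card K = 3) {n : ℕ} (hn : 3 ≤ n)
    (g : Matrix (Fin n) (Fin n) K) (hdet : g.det = 1) : IsComm g := by
  classical
  have h3 : ∀ x : K, x = 0 ∨ x = 1 ∨ x = -1 := by
    have h1 : ({0, 1, -1} : Finset K) = Finset.univ := by
      refine Finset.eq_univ_of_card _ ?_
      rw [hK, Finset.card_insert_of_notMem (by simp), Finset.card_insert_of_notMem (by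
        rw [Finset.mem_singleton]
        exact fun h => two_ne_zero_of_card hK (by linear_combination h)), Finset.card_singleton]
    intro x
    have hx := Finset.mem_univ x
    rw [← h1] at hx
    simpa using hx
  by_cases hs : ∃ a : K, g = a • 1
  · obtain ⟨a, rfl⟩ := hs
    refine isComm_scalar (by omega) ?_
    rwa [det_smul, det_one, mul_one, Fintype.card_fin] at hdet
  push Not at hs
  by_cases hr : 2 ≤ finrank K (img (g - 1))
  swap
  · exact transvection_case hn g hdet hr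
  suffices main : ∀ k, ∀ M : Matrix (Fin (k + 3)) (Fin (k + 3)) K, M.det = 1 →
      2 ≤ finrank K (img (M - 1)) → (∀ a : K, M ≠ a • 1) → ∀ c r, c ≠ 0 → r ≠ 0 →
      ∃ f D, Fac f D M c r ∧ D X = 1 ∧ ∃ p : K[X], p.eval 1 = 1 ∧ D p = -1 ∧ D 1 = 1 by
    obtain ⟨k, rfl⟩ : ∃ k, n = k + 3 := ⟨n - 3, by omega⟩
    have hne : (Pi.single 0 1 : Fin (k + 3) → K) ≠ 0 := by simp
    obtain ⟨f, D, hF, hX, p, -, hp, h1⟩ := main k g hdet hr hs _ _ hne hne
    refine hF.pair.isComm hX fun t ht => ?_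
    rcases h3 t with h | h | h
    · exact absurd h ht
    · exact ⟨1, h ▸ h1⟩
    · exact ⟨p, h ▸ hp⟩
  intro k
  induction k with
  | zero =>
    intro M hd hr hs c r _ _
    obtain ⟨D, hP, hX, p, hp, hp'⟩ := tail_three hK h3 M hd hr hs
    refine ⟨f3, D, hP.fac ?_ c r, hX, p, hp, hp', ?_⟩
    · simp [f3]
    · obtain ⟨A, C', w, v, -, -, -, h4⟩ := hP
      rw [← h4, map_one, det_one]
  | succ k ih =>
    intro M hd hr hs c r hc hr0
    obtain ⟨P, c', r', X', hM, hc', hr', hPc, hrP, hd', hnext⟩ := exists_split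
      (Finset.univ : Finset K) (by rw [Finset.card_univ, hK]) (Or.inr (by omega)) (by omega)
      (fun _ => h3) M hd hr hs c r hc hr0
    obtain ⟨hr2, hns2⟩ := hnext (by omega)
    obtain ⟨f, D, hF, hX, p, hp, hp', h1⟩ := ih _ hd' hr2 hns2 c' r' hc' hr'
    have h2 := (hF.step _ _ hPc hrP).conj P⁻¹
    rw [mem_conj hM, gl_inv_mulVec, inv_inv, vecMul_vecMul, ← Units.val_mul, inv_mul_cancel,
      Units.val_one, vecMul_one] at h2
    exact ⟨_, _, h2, by simp [hX], p, hp, by simp [hp, hp'], by simp [h1]⟩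

end Cfsg.Agent.SLComm
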