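/-
Witnesses over the field with two elements.
-/
import Cfsg.Agent.Lib.Classical.Commutator.Basic

set_option autoImplicit false

namespace Cfsg.Agent.SLComm

open Matrix

/-- a companion block of size `k` followed by copies of the swap -/
def fam (n k : ℕ) (h : ℕ → ZMod 2) : Matrix (Fin n) (Fin n) (ZMod 2) :=
  Matrix.of fun i j =>
    if j.val < k then
      (if j.val + 1 < k then (if i.val = j.val + 1 then 1 else 0)
        else (if i.val < k then h i.val else 0))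
    else (if k ≤ i.val ∧ (i.val - k) + (j.val - k) = 1 then 1 else 0)

/-- the swap -/
def swap2 : Matrix (Fin 2) (Fin 2) (ZMod 2) := !![0, 1; 1, 0]

theorem det_ne_zero_two {ι : Type*} [Fintype ι] [DecidableEq ι] {A B : Matrix ι ι (ZMod 2)}
    (h : A * B = 1) : A.det = 1 := by
  have h1 : A.det ≠ 0 := fun h0 => by
    have h2 := congrArg Matrix.det h
    rw [det_mul, h0, zero_mul, det_one] at h2
    exact zero_ne_one h2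
  revert h1
  generalize A.det = x
  revert x
  decide

theorem isComm_fam_two : IsComm ((fam 2 2 fun _ => 1) : Matrix (Fin 2) (Fin 2) (ZMod 2)) := by
  refine ⟨!![1, 1; 0, 1],
    !![0, 1; 1, 1],
    det_ne_zero_two (B := !![1, 1; 0, 1]) ?_,
    det_ne_zero_two (B := !![1, 1; 1, 0]) ?_, ?_⟩
  all_goals decide +kernel

theorem isComm_fam_three : IsComm ((fam 3 1 fun _ => 1) : Matrix (Fin 3) (Fin 3) (ZMod 2)) := by
  refine ⟨!![0, 1, 0; 1, 1, 0; 1, 0, 1],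
    !![1, 1, 1; 0, 0, 1; 0, 1, 0],
    det_ne_zero_two (B := !![1, 1, 0; 1, 0, 0; 1, 1, 1]) ?_,
    det_ne_zero_two (B := !![1, 1, 1; 0, 0, 1; 0, 1, 0]) ?_, ?_⟩
  all_goals decide +kernel

theorem isComm_fam_four : IsComm ((fam 4 2 fun _ => 1) : Matrix (Fin 4) (Fin 4) (ZMod 2)) := by
  refine ⟨!![1, 1, 0, 1; 0, 1, 0, 1; 0, 0, 1, 0; 1, 1, 1, 0],
    !![0, 0, 1, 0; 0, 1, 1, 0; 1, 1, 0, 0; 0, 0, 1, 1],
    det_ne_zero_two (B := !![1, 1, 0, 0; 1, 1, 1, 1; 0, 0, 1, 0; 1, 0, 1, 1]) ?_,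
    det_ne_zero_two (B := !![1, 1, 1, 0; 1, 1, 0, 0; 1, 0, 0, 0; 1, 0, 0, 1]) ?_, ?_⟩
  all_goals decide +kernel

theorem isComm_swap_pair : IsComm (((Matrix.blockDiagonal fun _ : Fin 2 => swap2).submatrix finProdFinEquiv.symm finProdFinEquiv.symm) : Matrix (Fin (2 * 2)) (Fin (2 * 2)) (ZMod 2)) := by
  refine ⟨!![1, 1, 0, 1; 0, 0, 0, 1; 1, 0, 1, 1; 0, 1, 0, 1],
    !![1, 0, 1, 1; 0, 1, 1, 0; 0, 1, 0, 0; 1, 1, 0, 0],
    det_ne_zero_two (B := !![1, 0, 0, 1; 0, 1, 0, 1; 1, 1, 1, 1; 0, 1, 0, 0]) ?_,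
    det_ne_zero_two (B := !![0, 0, 1, 1; 0, 0, 1, 0; 0, 1, 1, 0; 1, 1, 0, 1]) ?_, ?_⟩
  all_goals decide +kernel

theorem isComm_swap_triple : IsComm (((Matrix.blockDiagonal fun _ : Fin 3 => swap2).submatrix finProdFinEquiv.symm finProdFinEquiv.symm) : Matrix (Fin (2 * 3)) (Fin (2 * 3)) (ZMod 2)) := by
  refine ⟨!![0, 1, 1, 0, 1, 1; 1, 0, 0, 0, 1, 0; 1, 1, 1, 0, 0, 0; 0, 1, 0, 1, 1, 0; 1, 0, 1, 0, 0, 0; 0, 0, 0, 1, 0, 1],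
    !![1, 0, 0, 0, 1, 1; 1, 1, 1, 0, 1, 1; 0, 0, 1, 1, 1, 1; 1, 1, 1, 1, 1, 1; 1, 1, 0, 0, 1, 0; 1, 1, 1, 1, 0, 0],
    det_ne_zero_two (B := !![1, 0, 0, 1, 1, 1; 0, 0, 1, 0, 1, 0; 1, 0, 0, 1, 0, 1; 1, 1, 1, 0, 0, 1; 1, 1, 0, 1, 1, 1; 1, 1, 1, 0, 0, 0]) ?_,
    det_ne_zero_two (B := !![1, 0, 0, 1, 0, 1; 1, 0, 1, 0, 0, 1; 0, 1, 1, 0, 0, 1; 0, 1, 0, 1, 0, 0; 0, 0, 1, 1, 1, 0; 0, 0, 1, 0, 1, 1]) ?_, ?_⟩
  all_goals decide +kernel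

/-- witnesses for the tail of size 3 -/
def wit3 (a b : ZMod 2) : Matrix (Fin 3) (Fin 3) (ZMod 2) :=
  if a = 0 then
    (if b = 0 then !![1, 1, 1; 1, 0, 1; 0, 1, 1]
      else !![1, 0, 1; 1, 1, 0; 0, 1, 0])
  else
    (if b = 0 then !![0, 0, 1; 1, 0, 1; 0, 1, 0]
      else !![1, 0, 1; 1, 0, 0; 0, 1, 1])

/-- witnesses for the tail of size 5 -/
def wit5 (a b : ZMod 2) : Matrix (Fin 5) (Fin 5) (ZMod 2) :=
  if a = 0 then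
    (if b = 0 then !![0, 0, 1, 0, 0; 0, 1, 0, 0, 1; 0, 0, 0, 1, 1; 0, 0, 1, 1, 0; 1, 1, 1, 1, 1]
      else !![0, 1, 1, 0, 1; 1, 1, 0, 0, 1; 0, 0, 1, 1, 1; 1, 1, 1, 0, 1; 0, 0, 1, 0, 1])
  else
    (if b = 0 then !![0, 1, 1, 1, 1; 1, 0, 1, 0, 0; 1, 0, 0, 1, 1; 1, 1, 0, 1, 0; 0, 1, 1, 0, 0]
      else !![1, 0, 1, 0, 1; 1, 0, 0, 0, 1; 0, 1, 1, 1, 1; 1, 0, 1, 1, 1; 0, 1, 1, 0, 0])

/-- `A` is annihilated by a polynomial and has `e₀` as a cyclic vector, numerically -/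
def CycTest (n : ℕ) [NeZero n] (q : Fin n → ZMod 2) (A : Matrix (Fin n) (Fin n) (ZMod 2)) : Prop :=
  A ^ n = ∑ i : Fin n, q i • A ^ i.val ∧
    ∀ x : Fin n → ZMod 2, (∀ j, ∑ i : Fin n, x i * (A ^ i.val) j 0 = 0) → x = 0

instance (n : ℕ) [NeZero n] (q : Fin n → ZMod 2) (A : Matrix (Fin n) (Fin n) (ZMod 2)) :
    Decidable (CycTest n q A) := by
  unfold CycTest
  infer_instance

theorem tail_table3 : ∀ a b : ZMod 2,
    CycTest 3 ![1, 1, 0] (fam 3 3 (fun i => if i = 1 then a else if i = 2 then b else 1) * wit3 a b) ∧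
    CycTest 3 ![1, 1, 0] (wit3 a b)ᵀ := by
  decide +kernel

theorem tail_table5 : ∀ a b : ZMod 2,
    CycTest 5 ![1, 0, 0, 0, 1] (fam 5 3 (fun i => if i = 1 then a else if i = 2 then b else 1) * wit5 a b) ∧
    CycTest 5 ![1, 0, 0, 0, 1] (wit5 a b)ᵀ := by
  decide +kernel

end Cfsg.Agent.SLComm
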