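/-
Every invertible matrix of size at least three over the field with two elements is a commutator.
-/
import Cfsg.Agent.Lib.Classical.Commutator.TwoTable
import Cfsg.Agent.Lib.Classical.GLClassCount

set_option autoImplicit false

namespace Cfsg.Agent.SLComm

open Polynomial Matrix Module

theorem eq_one_of_ne_zero {x : ZMod 2} (h : x ≠ 0) : x = 1 := by
  revert h; revert x; decide

theorem neg_two (x : ZMod 2) : -x = x := by revert x; decide

theorem cyc_of_test {n : ℕ} [NeZero n] {q : Fin n → ZMod 2} {A : Matrix (Fin n) (Fin n) (ZMod 2)}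
    (h : CycTest n q A) :
    Cyc (X ^ n + ∑ i : Fin n, C (q i) * X ^ i.val) A (Pi.single 0 1) := by
  classical
  have hd : (∑ i : Fin n, C (q i) * X ^ i.val : (ZMod 2)[X]).degree < (n : ℕ) :=
    degree_sum_fin_lt q
  have hn : (X ^ n + ∑ i : Fin n, C (q i) * X ^ i.val : (ZMod 2)[X]).natDegree = n := by
    refine natDegree_eq_of_degree_eq_some ?_
    rw [degree_add_eq_left_of_degree_lt (by rwa [degree_X_pow]), degree_X_pow]
  refine ⟨monic_X_pow_add hd, hn, ?_, fun p hp h0 => ?_⟩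
  · simp only [map_add, map_pow, aeval_X, map_sum, map_mul, aeval_C, h.1,
      Algebra.algebraMap_eq_smul_one, smul_one_mul]
    ext i j
    rw [Matrix.add_apply, Matrix.zero_apply]
    exact CharTwo.add_self_eq_zero _
  · have h2 := h.2 (fun i => p.coeff i) fun j => ?_
    · refine Polynomial.ext fun i => ?_
      rw [coeff_zero]
      by_cases hi : i < n
      · exact congrFun h2 ⟨i, hi⟩
      · exact coeff_eq_zero_of_degree_lt (lt_of_lt_of_le hp (by exact_mod_cast (not_lt.1 hi)))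
    · rcases eq_or_ne p 0 with rfl | hp0
      · simp
      have hsum : aeval A p = ∑ i : Fin n, p.coeff i • A ^ i.val := by
        rw [aeval_eq_sum_range' ((natDegree_lt_iff_degree_lt hp0).2 hp),
          ← Fin.sum_univ_eq_sum_range (fun i => p.coeff i • A ^ i) n]
      have h3 := congrFun h0 j
      rw [hsum, mulVec_single_one, Matrix.col_apply, Matrix.sum_apply] at h3
      simpa [Matrix.smul_apply, smul_eq_mul] using h3

/-! ### The companion steps -/

theorem fam_split {n k : ℕ} (hk : 3 ≤ k) (hkn : k ≤ n) (h : ℕ → ZMod 2) :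
    ∃ (r : Fin n → ZMod 2) (X' : Matrix (Fin n) (Fin n) (ZMod 2)),
      fam (n + 1) (k + 1) h = bord 0 r (fun i => if i.val = 0 then 1 else 0) X' ∧
      fam n k (fun i => if i = 0 then h 0 else h (i + 1)) = (Matrix.of fun i j => if i.val = 0 then r j else X' i j) ∧
      ∀ i : Fin n, i.val = 0 → r i + X' i i = 0 := by
  refine ⟨fun j => fam (n + 1) (k + 1) h 0 j.succ, fun i j => fam (n + 1) (k + 1) h i.succ j.succ,
    ?_, ?_, ?_⟩
  · ext i j
    refine Fin.cases ?_ (fun i => ?_) i <;> refine Fin.cases ?_ (fun j => ?_) j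
    · simp [bord, fam, show k ≠ 0 by omega]
    · simp [bord]
    · simp [bord, fam, show k ≠ 0 by omega]
    · simp [bord]
  · ext i j
    simp only [Matrix.of_apply, fam, Fin.val_zero, Fin.val_succ]
    split_ifs <;> first | rfl | (exfalso; omega) | simp_all
  · intro i hi
    simp only [fam, Matrix.of_apply, Fin.val_succ, Fin.val_zero, hi]
    split_ifs <;> first | (exfalso; omega) | simp

/-- the first basis vector -/
def e0 (n : ℕ) : Fin n → ZMod 2 := fun i => if i.val = 0 then 1 else 0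

/-- conjugation by an elementary transvection splits off one coordinate -/
theorem shift_step {n : ℕ} {f : (ZMod 2)[X]} {D : (ZMod 2)[X] → ZMod 2} (r : Fin n → ZMod 2)
    (X' : Matrix (Fin n) (Fin n) (ZMod 2)) (hn : 0 < n) (h0 : r ⟨0, hn⟩ + X' ⟨0, hn⟩ ⟨0, hn⟩ = 0)
    (ih : ∀ r' : Fin n → ZMod 2, r' ⟨0, hn⟩ ≠ 0 →
      Fac f D (Matrix.of fun i j => if i.val = 0 then r j else X' i j) (e0 n) r')
    (r₀ : Fin (n + 1) → ZMod 2) (hr₀ : r₀ 0 ≠ 0) :
    Fac ((X - C 1) * f) (fun p => p.eval 1 * D p) (bord 0 r (e0 n) X') (e0 (n + 1)) r₀ := by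
  let e := e0 n
  let r' : Fin n → ZMod 2 := e + r + e ᵥ* X'
  let Y : Matrix (Fin n) (Fin n) (ZMod 2) := vecMulVec e e + X'
  have hee : e ⬝ᵥ e = 1 := by
    rw [dotProduct, Finset.sum_eq_single (⟨0, hn⟩ : Fin n) (fun b _ hb => ?_) (by simp)]
    · simp [e, e0]
    · simp [e, e0, show b.val ≠ 0 from fun h => hb (Fin.ext h)]
  have heX : e ᵥ* X' = X' ⟨0, hn⟩ := by
    funext j
    rw [vecMul, dotProduct, Finset.sum_eq_single (⟨0, hn⟩ : Fin n) (fun b _ hb => ?_) (by simp)]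
    · simp [e, e0]
    · simp [e, e0, show b.val ≠ 0 from fun h => hb (Fin.ext h)]
  have hM' : Y - vecMulVec e r' = Matrix.of fun i j => if i.val = 0 then r j else X' i j := by
    ext i j
    rw [Matrix.of_apply]
    show e i * e j + X' i j - e i * (e j + r j + (e ᵥ* X') j) = _
    rw [heX]
    by_cases hi : i.val = 0
    · obtain rfl : i = ⟨0, hn⟩ := Fin.ext hi
      rw [if_pos hi, show e ⟨0, hn⟩ = 1 by simp [e, e0]]
      linear_combination -(CharTwo.add_self_eq_zero (r j))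
    · rw [if_neg hi, show e i = 0 by simp [e, e0, hi]]
      ring
  have hr' : r' ⟨0, hn⟩ ≠ 0 := by
    show e ⟨0, hn⟩ + r ⟨0, hn⟩ + (e ᵥ* X') ⟨0, hn⟩ ≠ 0
    rw [heX, add_assoc, h0, add_zero]
    simp [e, e0]
  let T : Matrix (Fin (n + 1)) (Fin (n + 1)) (ZMod 2) := bord 1 e 0 1
  have hTT : T * T = 1 := by
    show bord 1 e 0 1 * bord 1 e 0 1 = _
    rw [bord_mul, bord_one]
    simp [show e + e = 0 from funext fun i => CharTwo.add_self_eq_zero (e i)]
  let P : GL (Fin (n + 1)) (ZMod 2) := ⟨T, T, hTT, hTT⟩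
  have hconj : P.1 * bord 0 r e X' * P⁻¹.1 = bord 1 r' e Y := by
    show bord 1 e 0 1 * bord 0 r e X' * bord 1 e 0 1 = _
    rw [bord_mul, bord_mul]
    simp [hee, r', Y, add_assoc, add_comm, add_left_comm]
  have hc : (P.1 *ᵥ e0 (n + 1)) 0 ≠ 0 := by
    have : e0 (n + 1) = vecCons 1 0 := by
      funext i; refine Fin.cases ?_ (fun i => ?_) i <;> simp [e0]
    show (bord 1 e 0 1 *ᵥ e0 (n + 1)) 0 ≠ 0
    rw [this, bord_mulVec]
    simp
  have hr : (r₀ ᵥ* P⁻¹.1) 0 ≠ 0 := by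
    show (r₀ ᵥ* bord 1 e 0 1) 0 ≠ 0
    simp [vecMul, dotProduct, Fin.sum_univ_succ, bord, hr₀]
  have h2 := ((hM' ▸ ih r' hr' : Fac f D (Y - vecMulVec e r') e r').step _ _ hc hr).conj P⁻¹
  have h3 : (P⁻¹).1 * bord 1 r' e Y * (P⁻¹)⁻¹.1 = bord 0 r e X' := mem_conj hconj
  rw [h3, gl_inv_mulVec, inv_inv, vecMul_vecMul, ← Units.val_mul, inv_mul_cancel, Units.val_one,
    vecMul_one] at h2
  exact h2

theorem fam_tail {n : ℕ} [NeZero n] {q : Fin n → ZMod 2} (hq : (1 : ZMod 2) + ∑ i, q i ≠ 0) (hq0 : q 0 ≠ 0)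
    {M W : Matrix (Fin n) (Fin n) (ZMod 2)} (hM : CycTest n q (M * W)) (hW : CycTest n q Wᵀ)
    (hdet : M.det ≠ 0) :
    ∃ f D, (∀ c r : Fin n → ZMod 2, Fac f D M c r) ∧ D 1 = 1 ∧ D X = 1 := by
  let f : (ZMod 2)[X] := X ^ n + ∑ i : Fin n, C (q i) * X ^ i.val
  have hp : Pair f (fun p => (aeval (M * W) p).det) M :=
    ⟨M * W, W, _, _, rfl, cyc_of_test hM, cyc_of_test hW, fun p => rfl⟩
  have hev : f.eval 1 ≠ 0 := by simpa [f, eval_finset_sum] using hq
  refine ⟨_, _, hp.fac hev, by simp, ?_⟩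
  refine eq_one_of_ne_zero fun h0 => ?_
  rw [aeval_X, det_mul, mul_eq_zero] at h0
  have h0 := h0.resolve_left hdet
  -- `W` is invertible as the polynomial does not vanish at zero
  obtain ⟨x, hx, hx'⟩ := Matrix.exists_mulVec_eq_zero_iff.2
    (show Wᵀ.det = 0 by rw [det_transpose, h0])
  have hA := (cyc_of_test hW).ann
  have h1 : ∀ p : (ZMod 2)[X], aeval Wᵀ p *ᵥ x = p.eval 0 • x := by
    intro p
    conv_lhs => rw [← X_mul_divX_add p]
    rw [map_add, map_mul, aeval_X, aeval_C, add_mulVec, coeff_zero_eq_eval_zero,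
      Algebra.algebraMap_eq_smul_one, smul_mulVec, one_mulVec]
    rw [show Wᵀ * aeval Wᵀ p.divX = aeval Wᵀ p.divX * Wᵀ by
      conv_lhs => arg 1; rw [← aeval_X (R := ZMod 2) Wᵀ]
      conv_rhs => arg 2; rw [← aeval_X (R := ZMod 2) Wᵀ]
      rw [← map_mul, ← map_mul, mul_comm], ← mulVec_mulVec, hx', mulVec_zero, zero_add]
  have h4 := h1 (X ^ n + ∑ i : Fin n, C (q i) * X ^ i.val)
  rw [hA, zero_mulVec] at h4
  refine hx ((smul_eq_zero.1 h4.symm).resolve_left ?_)
  rw [eval_add, eval_finset_sum, eval_pow, eval_X, zero_pow (NeZero.ne n), zero_add,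
    Finset.sum_eq_single (0 : Fin n) (fun b _ hb => ?_) (by simp)]
  · simpa using hq0
  · simp [show b.val ≠ 0 from fun h => hb (Fin.ext h)]

theorem fam_fac (t : ℕ) (hbase : ∀ h : ℕ → ZMod 2, h 0 = 1 → ∃ f D,
      (∀ c r : Fin (t + 3) → ZMod 2, Fac f D (fam (t + 3) 3 h) c r) ∧ D 1 = 1 ∧ D X = 1) :
    ∀ j : ℕ, ∀ h : ℕ → ZMod 2, h 0 = 1 → ∃ f D, (∀ r : Fin (t + 3 + j) → ZMod 2,
      r ⟨0, by omega⟩ ≠ 0 → Fac f D (fam (t + 3 + j) (3 + j) h) (e0 (t + 3 + j)) r) ∧
      D 1 = 1 ∧ D X = 1 := by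
  intro j
  induction j with
  | zero =>
    intro h h0
    obtain ⟨f, D, hF, h1, h2⟩ := hbase h h0
    exact ⟨f, D, fun r _ => hF _ r, h1, h2⟩
  | succ j ih =>
    intro h h0
    obtain ⟨r, X', hbord, hrow, hz⟩ := fam_split (n := t + 3 + j) (k := 3 + j) (by omega) (by omega) h
    obtain ⟨f, D, hF, h1, h2⟩ := ih (fun i => if i = 0 then h 0 else h (i + 1)) (by simpa using h0)
    refine ⟨(X - C 1) * f, fun p => p.eval 1 * D p, fun r₀ hr₀ => ?_, by simp [h1], by simp [h2]⟩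
    show Fac _ _ (fam (t + 3 + j + 1) (3 + j + 1) h) (e0 (t + 3 + j + 1)) r₀
    rw [hbord]
    exact shift_step r X' (by omega) (hz _ rfl) (fun r' hr' => hrow ▸ hF r' hr') r₀ hr₀

end Cfsg.Agent.SLComm
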