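/-
Assembling the primary blocks over the field with two elements.
-/
import Cfsg.Agent.Lib.Classical.Commutator.Two

set_option autoImplicit false

namespace Cfsg.Agent.SLComm

open Polynomial Matrix Module

theorem fam_congr {n k : ℕ} {h h' : ℕ → ZMod 2} (hh : ∀ i < k, h i = h' i) :
    fam n k h = fam n k h' := by
  ext i j
  simp only [fam, Matrix.of_apply]
  split_ifs with a b c <;> first | rfl | exact hh _ (by assumption)

theorem isComm_of_fac {n : ℕ} {f : (ZMod 2)[X]} {D : (ZMod 2)[X] → ZMod 2}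
    {M : Matrix (Fin n) (Fin n) (ZMod 2)} {c r : Fin n → ZMod 2} (hF : Fac f D M c r) (h1 : D 1 = 1)
    (hX : D X = 1) : IsComm M :=
  hF.pair.isComm hX fun _ ht => ⟨1, by rw [h1, eq_one_of_ne_zero ht]⟩

theorem base_cases (h : ℕ → ZMod 2) (h0 : h 0 = 1) :
    ∀ i < 3, h i = (fun i => if i = 1 then h 1 else if i = 2 then h 2 else 1) i := by
  intro i hi
  interval_cases i <;> simp [h0]

theorem fam_det3 : ∀ a b : ZMod 2,
    (fam 3 3 fun i => if i = 1 then a else if i = 2 then b else 1).det ≠ 0 := by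
  intro a b
  rw [det_fin_three]
  revert a b
  decide +kernel

theorem fam_base (h : ℕ → ZMod 2) (h0 : h 0 = 1) : ∃ f D,
    (∀ c r : Fin (0 + 3) → ZMod 2, Fac f D (fam (0 + 3) 3 h) c r) ∧ D 1 = 1 ∧ D X = 1 := by
  rw [fam_congr (base_cases h h0)]
  obtain ⟨hA, hW⟩ := tail_table3 (h 1) (h 2)
  exact fam_tail (by decide) (by decide) hA hW (fam_det3 _ _)

theorem fam_det5 : ∀ a b : ZMod 2,
    (fam 5 3 fun i => if i = 1 then a else if i = 2 then b else 1).det ≠ 0 := by
  intro a b h
  obtain ⟨x, hx, hx'⟩ := Matrix.exists_mulVec_eq_zero_iff.2 h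
  refine hx ?_
  have key : ∀ a b : ZMod 2, ∀ x : Fin 5 → ZMod 2,
      fam 5 3 (fun i => if i = 1 then a else if i = 2 then b else 1) *ᵥ x = 0 → x = 0 := by
    decide +kernel
  exact key a b x hx'

theorem fam_base_swap (h : ℕ → ZMod 2) (h0 : h 0 = 1) : ∃ f D,
    (∀ c r : Fin (2 + 3) → ZMod 2, Fac f D (fam (2 + 3) 3 h) c r) ∧ D 1 = 1 ∧ D X = 1 := by
  rw [fam_congr (base_cases h h0)]
  obtain ⟨hA, hW⟩ := tail_table5 (h 1) (h 2)
  exact fam_tail (by decide) (by decide) hA hW (fam_det5 _ _)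

theorem isComm_fam {k : ℕ} (h : ℕ → ZMod 2) (h0 : 0 < k → h 0 = 1) (hgood : k = 2 → h 1 = 1) :
    IsComm (fam k k h) := by
  match k, h0, hgood with
  | 0, _, _ => rw [Subsingleton.elim (fam 0 0 h) 1]; exact IsComm.one
  | 1, h0, _ =>
    rw [show fam 1 1 h = 1 by
      ext i j
      obtain rfl : i = 0 := Subsingleton.elim _ _
      obtain rfl : j = 0 := Subsingleton.elim _ _
      simp [fam, h0 one_pos]]
    exact IsComm.one
  | 2, h0, hgood =>
    rw [fam_congr (h' := fun _ => 1) (fun i hi => by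
      interval_cases i
      exacts [h0 two_pos, hgood rfl])]
    exact isComm_fam_two
  | j + 3, h0, _ =>
    obtain ⟨f, D, hF, h1, hX⟩ := fam_fac 0 fam_base j h (h0 (Nat.succ_pos _))
    have e' : 3 + j = j + 3 := by omega
    have := isComm_of_fac (hF (fun _ => 1) one_ne_zero) h1 hX
    have h2 := this.reindex (finCongr (show j + 3 = _ by omega))
    convert h2 using 1
    ext a b
    simp [fam, e']

theorem isComm_fam_swap {k : ℕ} (hk : 1 ≤ k) (h : ℕ → ZMod 2) (h0 : h 0 = 1)
    (hgood : k = 2 → h 1 = 1) : IsComm (Matrix.fromBlocks (fam k k h) 0 0 swap2) := by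
  have key : IsComm (fam (k + 2) k h) := by
    match k, hk, hgood with
    | 1, _, _ =>
      rw [fam_congr (h' := fun _ => 1) (fun i hi => by interval_cases i; exact h0)]
      exact isComm_fam_three
    | 2, _, hgood =>
      rw [fam_congr (h' := fun _ => 1) (fun i hi => by
        interval_cases i
        exacts [h0, hgood rfl])]
      exact isComm_fam_four
    | j + 3, _, _ =>
      obtain ⟨f, D, hF, h1, hX⟩ := fam_fac 2 fam_base_swap j h h0
      have e' : 3 + j = j + 3 := by omega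
      have := isComm_of_fac (hF (fun _ => 1) one_ne_zero) h1 hX
      have h2 := this.reindex (finCongr (show j + 3 + 2 = _ by omega))
      convert h2 using 1
      ext a b
      simp [fam, e']
  have h2 := key.reindex (finSumFinEquiv (m := k) (n := 2))
  convert h2 using 1
  ext a b
  rcases a with a | a <;> rcases b with b | b
  · simp [fam, swap2]
  · simp [fam, swap2, show ¬ k ≤ a.val by omega]
  · simp [fam, swap2]
    intro h1 h2
    omega
  · fin_cases a <;> fin_cases b <;> simp [fam, swap2]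

theorem isComm_swaps : ∀ m : ℕ, 2 ≤ m → IsComm (Matrix.blockDiagonal fun _ : Fin m => swap2)
  | 0, h => absurd h (by omega)
  | 1, h => absurd h (by omega)
  | 2, _ => by
    have := isComm_swap_pair.reindex finProdFinEquiv
    simpa [submatrix_submatrix] using this
  | 3, _ => by
    have := isComm_swap_triple.reindex finProdFinEquiv
    simpa [submatrix_submatrix] using this
  | m + 4, _ => by
    have h1 := isComm_swaps (m + 2) (by omega)
    have h2 := (isComm_swaps 2 le_rfl).fromBlocks h1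
    let e : Fin 2 × Fin (2 + (m + 2)) ≃ (Fin 2 × Fin 2) ⊕ (Fin 2 × Fin (m + 2)) :=
      ((Equiv.refl _).prodCongr finSumFinEquiv.symm).trans (Equiv.prodSumDistrib _ _ _)
    have h3 := h2.reindex e
    have h5 : IsComm (Matrix.blockDiagonal fun _ : Fin (2 + (m + 2)) => swap2) := by
      convert h3 using 1
      ext ⟨a, b⟩ ⟨c, d⟩
      refine Fin.addCases (fun b => ?_) (fun b => ?_) b <;>
        refine Fin.addCases (fun d => ?_) (fun d => ?_) d <;>
        simp [e, blockDiagonal_apply, finSumFinEquiv_symm_apply_castAdd,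
          finSumFinEquiv_symm_apply_natAdd] <;>
        (intro he; have he' := congrArg Fin.val he; simp at he'; omega)
    have h4 := h5.reindex ((Equiv.refl (Fin 2)).prodCongr (finCongr (by omega : m + 4 = 2 + (m + 2))))
    convert h4 using 1
    ext ⟨a, b⟩ ⟨c, d⟩
    simp [blockDiagonal_apply]

/-- the block sum of companion blocks -/
abbrev famSum {ι : Type*} [DecidableEq ι] (k : ι → ℕ) (h : ι → ℕ → ZMod 2) :
    Matrix ((i : ι) × Fin (k i)) ((i : ι) × Fin (k i)) (ZMod 2) :=
  Matrix.blockDiagonal' fun i => fam (k i) (k i) (h i)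

theorem isComm_split {ι : Type*} [Fintype ι] [DecidableEq ι] (k : ι → ℕ) (h : ι → ℕ → ZMod 2)
    (p : ι → Prop) [DecidablePred p]
    (h1 : IsComm (famSum (fun i : {i // p i} => k i) fun i => h i))
    (h2 : IsComm (famSum (fun i : {i // ¬ p i} => k i) fun i => h i)) : IsComm (famSum k h) := by
  let g : ((i : {i // p i}) × Fin (k i)) ⊕ ((i : {i // ¬ p i}) × Fin (k i)) → (i : ι) × Fin (k i) :=
    Sum.elim (fun x => ⟨x.1.1, x.2⟩) (fun x => ⟨x.1.1, x.2⟩)
  have hg : Function.Bijective g := by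
    refine ⟨?_, fun x => ?_⟩
    · rintro (⟨⟨a, ha⟩, x⟩ | ⟨⟨a, ha⟩, x⟩) (⟨⟨b, hb⟩, y⟩ | ⟨⟨b, hb⟩, y⟩) he <;>
        simp [g] at he <;> obtain ⟨rfl, he⟩ := he <;> first | exact absurd hb ha | exact absurd ha hb | simp_all
    · obtain ⟨a, x⟩ := x
      by_cases ha : p a
      exacts [⟨Sum.inl ⟨⟨a, ha⟩, x⟩, rfl⟩, ⟨Sum.inr ⟨⟨a, ha⟩, x⟩, rfl⟩]
  have e1 : Matrix.fromBlocks (famSum (fun i : {i // p i} => k i) fun i => h i) 0 0
      (famSum (fun i : {i // ¬ p i} => k i) fun i => h i) = (famSum k h).submatrix g g := by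
    ext x y
    rcases x with ⟨⟨a, ha⟩, x⟩ | ⟨⟨a, ha⟩, x⟩ <;> rcases y with ⟨⟨b, hb⟩, y⟩ | ⟨⟨b, hb⟩, y⟩ <;>
      simp only [fromBlocks_apply₁₁, fromBlocks_apply₁₂, fromBlocks_apply₂₁, fromBlocks_apply₂₂,
        submatrix_apply, g, Sum.elim_inl, Sum.elim_inr, Matrix.zero_apply]
    · by_cases hab : a = b
      · subst hab; simp [blockDiagonal'_apply_eq]
      · simp [blockDiagonal'_apply_ne _ _ _ hab,
          blockDiagonal'_apply_ne _ _ _ (show (⟨a, ha⟩ : {i // p i}) ≠ ⟨b, hb⟩ by simpa using hab)]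
    · exact (blockDiagonal'_apply_ne _ _ _ (fun e => hb (by cases e; exact ha))).symm
    · exact (blockDiagonal'_apply_ne _ _ _ (fun e => ha (by cases e; exact hb))).symm
    · by_cases hab : a = b
      · subst hab; simp [blockDiagonal'_apply_eq]
      · simp [blockDiagonal'_apply_ne _ _ _ hab,
          blockDiagonal'_apply_ne _ _ _ (show (⟨a, ha⟩ : {i // ¬ p i}) ≠ ⟨b, hb⟩ by simpa using hab)]
  have h3 := (e1 ▸ h1.fromBlocks h2).reindex (Equiv.ofBijective g hg).symm
  have e2 : ((famSum k h).submatrix g g).submatrix (Equiv.ofBijective g hg).symm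
      (Equiv.ofBijective g hg).symm = famSum k h := by
    ext x y
    simp [submatrix_apply, Equiv.ofBijective_apply_symm_apply]
  rwa [e2] at h3

theorem isComm_good : ∀ (m : ℕ) {ι : Type} [Fintype ι] [DecidableEq ι] (k : ι → ℕ)
    (h : ι → ℕ → ZMod 2), Fintype.card ι = m → (∀ i, 0 < k i → h i 0 = 1) →
    (∀ i, k i = 2 → h i 1 = 1) → IsComm (famSum k h) := by
  intro m
  induction m using Nat.strong_induction_on with
  | _ m ih =>
    intro ι _ _ k h hm h0 hgood
    rcases isEmpty_or_nonempty ι with hι | ⟨⟨i⟩⟩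
    · rw [Subsingleton.elim (famSum k h) 1]; exact IsComm.one
    by_cases hm1 : m = 1
    · have hsub : Subsingleton ι := Fintype.card_le_one_iff_subsingleton.1 (by omega)
      let g : Fin (k i) → (j : ι) × Fin (k j) := fun x => ⟨i, x⟩
      have hg : Function.Bijective g := by
        refine ⟨fun a b hab => by simpa [g] using hab, fun ⟨j, x⟩ => ?_⟩
        obtain rfl : j = i := Subsingleton.elim _ _
        exact ⟨x, rfl⟩
      have h1 := (isComm_fam (h i) (h0 i) (hgood i)).reindex (Equiv.ofBijective g hg).symm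
      convert h1 using 1
      ext x y
      obtain ⟨a, rfl⟩ := hg.2 x
      obtain ⟨b, rfl⟩ := hg.2 y
      simp [g, blockDiagonal'_apply_eq, Equiv.ofBijective_symm_apply_apply g]
    · classical
      obtain ⟨P, hP⟩ : ∃ P : ι → Prop, ∀ j, P j ↔ j = i := ⟨_, fun _ => Iff.rfl⟩
      have h1 : Fintype.card {j // P j} = 1 := by simp [Fintype.card_subtype, hP, Finset.filter_eq']
      have h2 : Fintype.card {j // ¬ P j} = m - 1 := by rw [Fintype.card_subtype_compl, h1, hm]
      have h3 : 1 ≤ m := hm ▸ Fintype.card_pos_iff.2 ⟨i⟩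
      exact isComm_split k h P
        (ih 1 (by omega) _ _ h1 (fun _ => h0 _) (fun _ => hgood _))
        (ih (m - 1) (by omega) _ _ h2 (fun _ => h0 _) (fun _ => hgood _))

theorem isComm_famSum {ι : Type} [Fintype ι] [DecidableEq ι] (k : ι → ℕ) (h : ι → ℕ → ZMod 2)
    (h0 : ∀ i, 0 < k i → h i 0 = 1) (hsum : 3 ≤ ∑ i, k i) : IsComm (famSum k h) := by
  classical
  let Bad : ι → Prop := fun i => k i = 2 ∧ h i 1 = 0
  have hgood : ∀ i, ¬ Bad i → k i = 2 → h i 1 = 1 :=
    fun i hi h2 => eq_one_of_ne_zero fun h3 => hi ⟨h2, h3⟩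
  have hswap : ∀ i, Bad i → ∀ (a b : Fin (k i)) (a' b' : Fin 2), a.val = a'.val → b.val = b'.val →
      fam (k i) (k i) (h i) a b = swap2 a' b' := by
    intro i hi a b a' b' ha hb
    obtain ⟨hk, h1⟩ := hi
    simp only [fam, Matrix.of_apply, hk, ha, hb]
    fin_cases a' <;> fin_cases b' <;> simp [swap2, h1, h0 i (by omega)]
  by_cases hcount : Fintype.card {i // Bad i} = 1
  · obtain ⟨⟨i, hi⟩, huniq⟩ := Fintype.card_eq_one_iff.1 hcount
    have huniq' : ∀ j, Bad j → j = i := fun j hj => congrArg Subtype.val (huniq ⟨j, hj⟩)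
    obtain ⟨j, hji, hj⟩ : ∃ j, j ≠ i ∧ 0 < k j := by
      by_contra hall
      push Not at hall
      rw [Finset.sum_eq_single i (fun j _ hj => Nat.le_zero.1 (hall j hj)) (by simp), hi.1] at hsum
      omega
    have hjgood : ¬ Bad j := fun hb => hji (huniq' j hb)
    refine isComm_split k h (fun x => x = j ∨ x = i) ?_ (isComm_good _ _ _ rfl (fun _ => h0 _)
      fun x => hgood _ fun hb => x.2 (Or.inr (huniq' _ hb)))
    let g : Fin (k j) ⊕ Fin 2 → (x : {x // x = j ∨ x = i}) × Fin (k x) :=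
      Sum.elim (fun a => ⟨⟨j, Or.inl rfl⟩, a⟩) (fun a => ⟨⟨i, Or.inr rfl⟩, Fin.cast hi.1.symm a⟩)
    have hg : Function.Bijective g := by
      refine ⟨?_, ?_⟩
      · rintro (a | a) (b | b) hab <;> simp [g, hji, Ne.symm hji] at hab <;> simp [hab]
      · rintro ⟨⟨x, rfl | rfl⟩, a⟩
        · exact ⟨Sum.inl a, rfl⟩
        · exact ⟨Sum.inr (Fin.cast hi.1 a), rfl⟩
    have h1 := (isComm_fam_swap hj (h j) (h0 j hj) (hgood j hjgood)).reindex
      (Equiv.ofBijective g hg).symm
    convert h1 using 1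
    ext x y
    obtain ⟨a, rfl⟩ := hg.2 x
    obtain ⟨b, rfl⟩ := hg.2 y
    rw [submatrix_apply, Equiv.ofBijective_symm_apply_apply, Equiv.ofBijective_symm_apply_apply]
    rcases a with a | a <;> rcases b with b | b
    · simp [g, blockDiagonal'_apply_eq]
    · exact blockDiagonal'_apply_ne _ _ _ (by simpa using hji)
    · exact blockDiagonal'_apply_ne _ _ _ (by simpa using hji.symm)
    · simp only [g, Sum.elim_inr, fromBlocks_apply₂₂]
      exact (blockDiagonal'_apply_eq _ _ _ _).trans (hswap i hi _ _ a b rfl rfl)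
  · refine isComm_split k h Bad ?_ (isComm_good _ _ _ rfl (fun _ => h0 _) fun x => hgood _ x.2)
    by_cases h2 : 2 ≤ Fintype.card {i // Bad i}
    · obtain ⟨e⟩ : Nonempty (Fin (Fintype.card {i // Bad i}) ≃ {i // Bad i}) :=
        ⟨(Fintype.equivFin _).symm⟩
      let g : Fin 2 × Fin (Fintype.card {i // Bad i}) → (x : {i // Bad i}) × Fin (k x) :=
        fun p => ⟨e p.2, Fin.cast (e p.2).2.1.symm p.1⟩
      have hg : Function.Bijective g := by
        refine ⟨?_, ?_⟩
        · rintro ⟨a, b⟩ ⟨c, d⟩ hab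
          obtain ⟨h3, h4⟩ := Sigma.mk.inj_iff.1 hab
          obtain rfl := e.injective h3
          have h5 := eq_of_heq h4
          exact Prod.ext (Fin.ext (congrArg Fin.val h5 :)) rfl
        · rintro ⟨x, a⟩
          obtain ⟨b, rfl⟩ := e.surjective x
          exact ⟨(Fin.cast (e b).2.1 a, b), rfl⟩
      have h1 := (isComm_swaps _ h2).reindex (Equiv.ofBijective g hg).symm
      convert h1 using 1
      ext x y
      obtain ⟨⟨a, b⟩, rfl⟩ := hg.2 x
      obtain ⟨⟨c, d⟩, rfl⟩ := hg.2 y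
      rw [submatrix_apply, Equiv.ofBijective_symm_apply_apply, Equiv.ofBijective_symm_apply_apply,
        blockDiagonal_apply]
      by_cases hbd : b = d
      · subst hbd
        rw [if_pos rfl]
        simp only [g]
        exact (blockDiagonal'_apply_eq _ _ _ _).trans (hswap _ (e b).2 _ _ a c rfl rfl)
      · rw [if_neg hbd]
        exact blockDiagonal'_apply_ne _ _ _ (fun he => hbd (e.injective he))
    · have h3 : IsEmpty {i // Bad i} := Fintype.card_eq_zero_iff.1 (by omega)
      rw [Subsingleton.elim (famSum (fun i : {i // Bad i} => k i) fun i => h i) 1]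
      exact IsComm.one

theorem cyc_fam {k : ℕ} (hk : 1 ≤ k) {f : (ZMod 2)[X]} (hf : f.Monic) (hd : f.natDegree = k) :
    Cyc f (fam k k fun i => f.coeff i) (Pi.single ⟨0, hk⟩ 1) := by
  classical
  let A := fam k k fun i => f.coeff i
  have hpow : ∀ j : ℕ, ∀ hj : j < k, A ^ j *ᵥ Pi.single ⟨0, hk⟩ 1 = Pi.single (⟨j, hj⟩ : Fin k) 1 := by
    intro j
    induction j with
    | zero => intro hj; rw [pow_zero, one_mulVec]
    | succ j ih =>
      intro hj
      rw [pow_succ', ← mulVec_mulVec, ih (by omega), mulVec_single_one]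
      funext i
      simp [A, fam, hj, show j < k by omega, Pi.single_apply, Fin.ext_iff]
  have hsum : ∀ p : (ZMod 2)[X], p.natDegree < k →
      aeval A p *ᵥ Pi.single ⟨0, hk⟩ 1 = fun i : Fin k => p.coeff i := by
    intro p hp
    rw [aeval_eq_sum_range' hp, ← Fin.sum_univ_eq_sum_range (fun i => p.coeff i • A ^ i) k,
      Matrix.sum_mulVec]
    funext i
    rw [Finset.sum_apply, Finset.sum_eq_single i]
    · rw [smul_mulVec, hpow _ i.isLt]; simp
    · intro j _ hji
      rw [smul_mulVec, hpow _ j.isLt]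
      simp [Pi.single_apply, hji.symm]
    · simp
  have hann : aeval A f *ᵥ Pi.single (⟨0, hk⟩ : Fin k) 1 = 0 := by
    have he : f = X ^ k + f.eraseLead := by
      conv_lhs => rw [← f.eraseLead_add_monomial_natDegree_leadingCoeff, hd, hf.leadingCoeff,
        monomial_one_right_eq_X_pow, add_comm]
    have hdeg : f.eraseLead.natDegree < k := by
      rcases f.eraseLead_natDegree_lt_or_eraseLead_eq_zero with h | h
      · omega
      · rw [h, natDegree_zero]; omega
    rw [he, map_add, map_pow, aeval_X, add_mulVec, hsum _ hdeg]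
    obtain ⟨j, rfl⟩ : ∃ j, k = j + 1 := ⟨k - 1, by omega⟩
    rw [pow_succ', ← mulVec_mulVec, hpow j (by omega), mulVec_single_one]
    funext i
    have hi : i.val ≠ f.natDegree := by omega
    rw [Pi.add_apply, eraseLead_coeff_of_ne _ hi]
    simp [A, fam, show i.val ≤ j from Nat.le_of_lt_succ i.isLt]
    exact CharTwo.add_self_eq_zero _
  refine ⟨hf, hd, ext_of_mulVec_single fun i => ?_, fun p hp h0 => ?_⟩
  · rw [zero_mulVec, ← hpow i i.isLt, mulVec_mulVec, ← aeval_X_pow (R := ZMod 2), ← map_mul,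
      mul_comm, map_mul, aeval_X_pow, ← mulVec_mulVec, hann, mulVec_zero]
  · by_contra hp0
    rw [hsum p ((natDegree_lt_iff_degree_lt hp0).2 hp)] at h0
    refine hp0 (Polynomial.ext fun i => ?_)
    rw [coeff_zero]
    by_cases hi : i < k
    · exact congrFun h0 ⟨i, hi⟩
    · exact coeff_eq_zero_of_degree_lt (lt_of_lt_of_le hp (by exact_mod_cast (not_lt.1 hi)))

theorem cyc_block {k : ℕ} (f : (ZMod 2)[X]) (hf : f.Monic) (hd : f.natDegree = k)
    (b : Basis (Fin k) (ZMod 2) ((ZMod 2)[X] ⧸ Submodule.span (ZMod 2)[X] {f})) :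
    ∃ (A : Matrix (Fin k) (Fin k) (ZMod 2)) (w : Fin k → ZMod 2), Cyc f A w ∧
      ∀ x, A *ᵥ b.equivFun x = b.equivFun ((X : (ZMod 2)[X]) • x) := by
  let T : ((ZMod 2)[X] ⧸ Submodule.span (ZMod 2)[X] {f}) →ₗ[ZMod 2]
      ((ZMod 2)[X] ⧸ Submodule.span (ZMod 2)[X] {f}) :=
    { toFun := fun x => (X : (ZMod 2)[X]) • x
      map_add' := fun x y => smul_add _ _ _
      map_smul' := fun c x => smul_comm _ _ _ }
  have hA : ∀ x, LinearMap.toMatrix b b T *ᵥ b.equivFun x = b.equivFun ((X : (ZMod 2)[X]) • x) :=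
    fun x => LinearMap.toMatrix_mulVec_repr b b T x
  have haeval : ∀ (p : (ZMod 2)[X]) x,
      aeval (LinearMap.toMatrix b b T) p *ᵥ b.equivFun x = b.equivFun (p • x) := by
    intro p
    induction p using Polynomial.induction_on with
    | C c =>
      intro x
      rw [aeval_C, Algebra.algebraMap_eq_smul_one, smul_mulVec, one_mulVec, ← map_smul,
        ← algebraMap_smul (ZMod 2)[X] c x]
      rfl
    | add p q hp hq => intro x; rw [map_add, add_mulVec, hp, hq, add_smul, map_add]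
    | monomial n c hn =>
      intro x
      rw [pow_succ, ← mul_assoc, map_mul, aeval_X, ← mulVec_mulVec, hA, hn, mul_smul (C c * X ^ n)]
  refine ⟨LinearMap.toMatrix b b T, b.equivFun (Submodule.Quotient.mk 1),
    ⟨hf, hd, ext_of_mulVec_single fun i => ?_, fun p hp h0 => ?_⟩, hA⟩
  · rw [zero_mulVec, ← b.equivFun.apply_symm_apply (Pi.single i 1), haeval]
    obtain ⟨q, hq⟩ := Submodule.Quotient.mk_surjective _ (b.equivFun.symm (Pi.single i 1))
    rw [← hq, ← Submodule.Quotient.mk_smul, (Submodule.Quotient.mk_eq_zero _).2, map_zero]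
    rw [smul_eq_mul, mul_comm, ← smul_eq_mul]
    exact Submodule.smul_mem _ _ (Submodule.mem_span_singleton_self f)
  · rw [haeval, LinearEquiv.map_eq_zero_iff, ← Submodule.Quotient.mk_smul, smul_eq_mul, mul_one,
      Submodule.Quotient.mk_eq_zero, Submodule.mem_span_singleton] at h0
    obtain ⟨a, rfl⟩ := h0
    by_contra hne
    rw [smul_eq_mul] at hp hne
    rw [degree_mul, degree_eq_natDegree (left_ne_zero_of_mul hne), degree_eq_natDegree hf.ne_zero,
      hd] at hp
    norm_cast at hp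
    omega

theorem comm_two_aux {n : ℕ} (hn : 3 ≤ n) (g : GL (Fin n) (ZMod 2)) : IsComm g.1 := by
  classical
  obtain ⟨ι, hι, p, e, hp, he, hsum, ⟨Φ⟩⟩ := GLCount.exists_decomp g
  let k : ι → ℕ := fun i => e i * (p i).natDegree
  let f : ι → (ZMod 2)[X] := fun i => p i ^ e i
  have hf : ∀ i, (f i).Monic := fun i => (hp i).2.pow _
  have hd : ∀ i, (f i).natDegree = k i := fun i => natDegree_pow _ _
  have : ∀ i, Module.Finite (ZMod 2) (GLCount.Blk (p i) (e i)) := fun i => (hf i).finite_quotient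
  let b : ∀ i, Basis (Fin (k i)) (ZMod 2) (GLCount.Blk (p i) (e i)) := fun i =>
    Module.finBasisOfFinrankEq (ZMod 2) _ (GLCount.finrank_blk (p i) (e i))
  have hA : ∀ i, ∃ (A : Matrix (Fin (k i)) (Fin (k i)) (ZMod 2)) (w : Fin (k i) → ZMod 2),
      Cyc (f i) A w ∧ ∀ x, A *ᵥ (b i).equivFun x = (b i).equivFun ((X : (ZMod 2)[X]) • x) :=
    fun i => cyc_block (f i) (hf i) (hd i) (b i)
  choose A w hAw hAX using hA
  have hP : ∀ i, ∃ P : GL (Fin (k i)) (ZMod 2),
      P.1 * A i * P⁻¹.1 = fam (k i) (k i) fun j => (f i).coeff j := by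
    intro i
    rcases Nat.eq_zero_or_pos (k i) with h | h
    · refine ⟨1, ?_⟩
      have : IsEmpty (Fin (k i)) := by rw [h]; infer_instance
      exact Subsingleton.elim _ _
    · obtain ⟨P, hP⟩ := similar_conj (hAw i) (cyc_fam h (hf i) (hd i))
      exact ⟨P, hP.symm⟩
  choose P hP using hP
  let h : ι → ℕ → ZMod 2 := fun i j => (f i).coeff j
  have h0 : ∀ i, 0 < k i → h i 0 = 1 := by
    intro i hi
    refine eq_one_of_ne_zero ?_
    show (f i).coeff 0 ≠ 0
    rw [coeff_zero_eq_eval_zero, eval_pow]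
    exact pow_ne_zero _ (he i fun h0 => by simp [k, h0] at hi)
  have hB : IsComm (Matrix.blockDiagonal' A) := by
    let Q : (Matrix ((i : ι) × Fin (k i)) ((i : ι) × Fin (k i)) (ZMod 2))ˣ :=
      ⟨Matrix.blockDiagonal' fun i => (P i).1, Matrix.blockDiagonal' fun i => (P i)⁻¹.1,
        by rw [← blockDiagonal'_mul]; simp [← blockDiagonal'_one]; rfl,
        by rw [← blockDiagonal'_mul]; simp [← blockDiagonal'_one]; rfl⟩
    refine IsComm.of_conj Q ?_
    show IsComm (Matrix.blockDiagonal' (fun i => (P i).1) * Matrix.blockDiagonal' A *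
      Matrix.blockDiagonal' fun i => (P i)⁻¹.1)
    rw [← blockDiagonal'_mul, ← blockDiagonal'_mul]
    simp only [hP]
    exact isComm_famSum k h h0 (by rw [show ∑ i, k i = n from hsum]; exact hn)
  -- the change of coordinates
  let E : (Fin n → ZMod 2) ≃ₗ[ZMod 2] ((x : (i : ι) × Fin (k i)) → ZMod 2) :=
    (((AEval'.of (GLCount.lin g.1)).trans (Φ.restrictScalars (ZMod 2))).trans
      (LinearEquiv.piCongrRight fun i => (b i).equivFun)).trans
      (LinearEquiv.piCurry (ZMod 2) (fun i (_ : Fin (k i)) => ZMod 2)).symm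
  have hE : ∀ v, E (g.1 *ᵥ v) = Matrix.blockDiagonal' A *ᵥ E v := by
    intro v
    funext ⟨i, a⟩
    show (b i).equivFun ((Φ (AEval'.of (GLCount.lin g.1) (GLCount.lin g.1 v))) i) a = _
    rw [← AEval'.X_smul_of, map_smul, Pi.smul_apply, ← hAX]
    simp only [mulVec, dotProduct, Fintype.sum_sigma]
    rw [Finset.sum_eq_single i (fun j _ hj => Finset.sum_eq_zero fun c _ => by
      rw [blockDiagonal'_apply_ne _ _ _ (Ne.symm hj), zero_mul]) (by simp)]
    refine Finset.sum_congr rfl fun c _ => ?_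
    rw [blockDiagonal'_apply_eq]
    rfl
  let σ : Fin n ≃ (i : ι) × Fin (k i) := (Fintype.equivFinOfCardEq (by
    rw [Fintype.card_sigma]; simp [k, hsum])).symm
  let E' : (Fin n → ZMod 2) ≃ₗ[ZMod 2] (Fin n → ZMod 2) :=
    E.trans (LinearEquiv.funCongrLeft (ZMod 2) (ZMod 2) σ)
  let R : GL (Fin n) (ZMod 2) := ⟨LinearMap.toMatrix' E'.toLinearMap,
    LinearMap.toMatrix' E'.symm.toLinearMap, by rw [← LinearMap.toMatrix'_comp]; simp,
    by rw [← LinearMap.toMatrix'_comp]; simp⟩
  have hR : R.1 * g.1 * R⁻¹.1 = (Matrix.blockDiagonal' A).submatrix σ σ := by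
    have h1 : R.1 * g.1 = (Matrix.blockDiagonal' A).submatrix σ σ * R.1 := by
      refine ext_of_mulVec_single fun j => ?_
      rw [← mulVec_mulVec, ← mulVec_mulVec]
      show LinearMap.toMatrix' E'.toLinearMap *ᵥ _ = _ *ᵥ (LinearMap.toMatrix' E'.toLinearMap *ᵥ _)
      rw [LinearMap.toMatrix'_mulVec, LinearMap.toMatrix'_mulVec]
      simp only [LinearEquiv.coe_coe, E', LinearEquiv.trans_apply, hE]
      funext a
      show (Matrix.blockDiagonal' A *ᵥ E _) (σ a) = _
      rw [submatrix_mulVec_equiv]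
      simp [Function.comp_def]
    rw [h1, mul_assoc, Units.mul_inv, mul_one]
  exact IsComm.of_conj R (hR ▸ hB.reindex σ)

theorem comm_two {K : Type*} [Field K] [Fintype K] (hK : Fintype.card K = 2) {n : ℕ} (hn : 3 ≤ n)
    (g : Matrix (Fin n) (Fin n) K) (hdet : g.det = 1) : IsComm g := by
  let e : ZMod 2 ≃+* K := ZMod.ringEquivOfPrime K Nat.prime_two hK
  let g₀ : Matrix (Fin n) (Fin n) (ZMod 2) := e.symm.toRingHom.mapMatrix g
  have hd : g₀.det = 1 := by rw [← RingHom.map_det, hdet, map_one]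
  obtain ⟨a, b, ha, hb, hab⟩ := comm_two_aux hn (GeneralLinearGroup.mkOfDetNeZero g₀ (by rw [hd]; exact one_ne_zero))
  refine ⟨e.toRingHom.mapMatrix a, e.toRingHom.mapMatrix b, by rw [← RingHom.map_det, ha, map_one],
    by rw [← RingHom.map_det, hb, map_one], ?_⟩
  have hg : g = e.toRingHom.mapMatrix g₀ := by
    ext i j
    simp [g₀]
  rw [hg, ← map_mul, ← map_mul, ← map_mul]
  exact congrArg _ hab

end Cfsg.Agent.SLComm
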